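import Groth.Agent.DTenLib.Basic
import Groth.Agent.KFlat.StalkTot
import Groth.Agent.DualCx.LocGlobal
import Groth.Agent.AnnKill.KoszulCx
import Groth.Agent.S15821
import Groth.Agent.S15828
import Groth.Prelude.Def_DTen6
import Groth.Prelude.Def_LCI2

/-!
Triple derived tensor products of cyclic modules, localized and computed by Koszul complexes.
-/

set_option autoImplicit false
set_option linter.style.haveILetI false
universe u

namespace Groth.Agent.TorExcess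

open CategoryTheory Limits MonoidalCategory

attribute [local instance] HasDerivedCategory.standard

noncomputable section

variable {A C : Type u} [CommRing A] [CommRing C]

theorem nonempty_ext_iso (φ : A →+* C) (inst : Algebra A C) (h : inst = φ.toAlgebra) (M : ModuleCat.{u} A) :
    Nonempty ((DualCx.ext φ).obj M ≅ ModuleCat.of C (TensorProduct A C M)) := by
  subst h
  exact ⟨Iso.refl _⟩

theorem nonempty_ext_algebraMap_iso [Algebra A C] (M : ModuleCat.{u} A) :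
    Nonempty ((DualCx.ext (algebraMap A C)).obj M ≅ ModuleCat.of C (TensorProduct A C M)) :=
  nonempty_ext_iso (algebraMap A C) ‹Algebra A C› (Algebra.algebra_ext _ _ fun _ => rfl) M

theorem isKFlat_koszul (g : List C) : DRing.IsKFlat C (Koszul.koszul C g) :=
  DRingKP.isKFlat_of_bounded (b := 0)
    (fun i hi => haveI := AnnKill.kz_subsingleton g i (Or.inl hi); ModuleCat.isZero_of_subsingleton _)
    (fun i => haveI := (AnnKill.kz_free_finite g i).1; inferInstance)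

/-- A Koszul complex of a regular sequence represents the quotient. -/
theorem nonempty_koszul_iso {g : List C} (hg : RingTheory.Sequence.IsWeaklyRegular C g) :
    Nonempty (DerivedCategory.Q.obj (Koszul.koszul C g) ≅ Dual.inD C (C ⧸ Ideal.ofList g)) := by
  obtain ⟨hreg, ⟨e0⟩⟩ := Groth.Agent.S15821.result C g hg
  let X := DerivedCategory.Q.obj (Koszul.koszul C g)
  have hz : ∀ i : ℤ, i ≠ 0 → IsZero ((DerivedCategory.homologyFunctor (ModuleCat.{u} C) i).obj X) := fun i hi =>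
    (hreg i hi).of_iso ((DerivedCategory.homologyFunctorFactors (ModuleCat.{u} C) i).app _)
  haveI : X.IsGE 0 := (DerivedCategory.isGE_iff X 0).2 fun i hi => hz i (by omega)
  haveI : X.IsLE 0 := (DerivedCategory.isLE_iff X 0).2 fun i hi => hz i (by omega)
  obtain ⟨Y, ⟨e⟩⟩ := DerivedCategory.exists_iso_singleFunctor_obj_of_isGE_of_isLE X 0
  let eY : Y ≅ (Koszul.koszul C g).homology 0 :=
    ((DerivedCategory.singleFunctorCompHomologyFunctorIso (ModuleCat.{u} C) 0).app Y).symm ≪≫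
      (DerivedCategory.homologyFunctor (ModuleCat.{u} C) 0).mapIso e.symm ≪≫
      (DerivedCategory.homologyFunctorFactors (ModuleCat.{u} C) 0).app _
  exact ⟨e ≪≫ (DerivedCategory.singleFunctor (ModuleCat.{u} C) 0).mapIso (eY ≪≫ e0)⟩

/-- The tensor product of three K-flat complexes only depends on their images in `D(C)`. -/
theorem nonempty_tensor₃_iso {X₁ X₂ X₃ Y₁ Y₂ Y₃ : DRing.Cx C}
    (h₂ : DRing.IsKFlat C X₂) (h₃ : DRing.IsKFlat C X₃) (h₂' : DRing.IsKFlat C Y₂) (h₃' : DRing.IsKFlat C Y₃)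
    (e₁ : DerivedCategory.Q.obj X₁ ≅ DerivedCategory.Q.obj Y₁)
    (e₂ : DerivedCategory.Q.obj X₂ ≅ DerivedCategory.Q.obj Y₂)
    (e₃ : DerivedCategory.Q.obj X₃ ≅ DerivedCategory.Q.obj Y₃) :
    Nonempty (DerivedCategory.Q.obj (X₁ ⊗ (X₂ ⊗ X₃)) ≅ DerivedCategory.Q.obj (Y₁ ⊗ (Y₂ ⊗ Y₃))) := by
  haveI : DTen.HasLTen₃ C := DTenLib.hasLTen₃
  haveI := DTenLib.isIso_ε₃ X₁ h₂ h₃
  haveI := DTenLib.isIso_ε₃ Y₁ h₂' h₃'
  exact ⟨(asIso ((DTen.ε₃ C).app (X₁, (X₂, X₃)))).symm ≪≫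
    (DTen.LTen₃ C).mapIso (Iso.prod e₁ (Iso.prod e₂ e₃)) ≪≫ asIso ((DTen.ε₃ C).app (Y₁, (Y₂, Y₃)))⟩

theorem nonempty_localized_iso [Algebra A C] [Module.Flat A C] [DTen.HasLTen₃ A] (J₁ J₂ J₃ : Ideal A)
    {g₁ g₂ g₃ : List C} (h₁ : RingTheory.Sequence.IsWeaklyRegular C g₁)
    (h₂ : RingTheory.Sequence.IsWeaklyRegular C g₂) (h₃ : RingTheory.Sequence.IsWeaklyRegular C g₃)
    (hJ₁ : Ideal.ofList g₁ = J₁.map (algebraMap A C)) (hJ₂ : Ideal.ofList g₂ = J₂.map (algebraMap A C))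
    (hJ₃ : Ideal.ofList g₃ = J₃.map (algebraMap A C)) (i : ℤ) :
    Nonempty (TensorProduct A C
        (Dual.HD A ((DTen.LTen₃ A).obj (Dual.inD A (A ⧸ J₁), (Dual.inD A (A ⧸ J₂), Dual.inD A (A ⧸ J₃)))) i)
      ≃ₗ[C] (Koszul.koszul C (g₁ ++ (g₂ ++ g₃))).homology i) := by
  let φ := algebraMap A C
  obtain ⟨K₁, hK₁, ⟨e₁⟩⟩ := DTenLib.exists_kFlat_rep (Dual.inD A (A ⧸ J₁))
  obtain ⟨K₂, hK₂, ⟨e₂⟩⟩ := DTenLib.exists_kFlat_rep (Dual.inD A (A ⧸ J₂))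
  obtain ⟨K₃, hK₃, ⟨e₃⟩⟩ := DTenLib.exists_kFlat_rep (Dual.inD A (A ⧸ J₃))
  haveI := DTenLib.isIso_ε₃ K₁ hK₂ hK₃
  let T := (DTen.LTen₃ A).obj (Dual.inD A (A ⧸ J₁), (Dual.inD A (A ⧸ J₂), Dual.inD A (A ⧸ J₃)))
  let a : T ≅ DerivedCategory.Q.obj (K₁ ⊗ (K₂ ⊗ K₃)) :=
    (DTen.LTen₃ A).mapIso (Iso.prod e₁.symm (Iso.prod e₂.symm e₃.symm)) ≪≫
      asIso ((DTen.ε₃ A).app (K₁, (K₂, K₃)))
  let B := DRingKP.bc φ
  let c : B.obj (K₁ ⊗ (K₂ ⊗ K₃)) ≅ B.obj K₁ ⊗ (B.obj K₂ ⊗ B.obj K₃) :=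
    DTen.extTenCxIso φ K₁ (K₂ ⊗ K₃) ≪≫ whiskerLeftIso (B.obj K₁) (DTen.extTenCxIso φ K₂ K₃)
  have rep : ∀ (J : Ideal A) (g : List C) (K : DRing.Cx A), RingTheory.Sequence.IsWeaklyRegular C g →
      Ideal.ofList g = J.map φ → (DerivedCategory.Q.obj K ≅ Dual.inD A (A ⧸ J)) →
      Nonempty (DerivedCategory.Q.obj (B.obj K) ≅ DerivedCategory.Q.obj (Koszul.koszul C g)) :=
    fun J g K hg hJ e => by
    obtain ⟨k⟩ := nonempty_koszul_iso hg
    obtain ⟨d0⟩ := nonempty_ext_algebraMap_iso (C := C) (ModuleCat.of A (A ⧸ J))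
    let d : (DualCx.ext φ).obj (ModuleCat.of A (A ⧸ J)) ≅ ModuleCat.of C (C ⧸ Ideal.ofList g) :=
      d0 ≪≫ ((Algebra.TensorProduct.quotIdealMapEquivTensorQuot C J).symm.toLinearEquiv ≪≫ₗ
        Submodule.quotEquivOfEq _ _ hJ.symm).toModuleIso
    exact ⟨(DualCx.locQ φ K).symm ≪≫ (DualCx.locD φ).mapIso e ≪≫ DualCx.locInD φ (A ⧸ J) ≪≫
      (DerivedCategory.singleFunctor (ModuleCat.{u} C) 0).mapIso d ≪≫ k.symm⟩
  obtain ⟨r₁⟩ := rep J₁ g₁ K₁ h₁ hJ₁ e₁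
  obtain ⟨r₂⟩ := rep J₂ g₂ K₂ h₂ hJ₂ e₂
  obtain ⟨r₃⟩ := rep J₃ g₃ K₃ h₃ hJ₃ e₃
  obtain ⟨t⟩ := nonempty_tensor₃_iso (KFlat.isKFlat_extendScalars φ hK₂) (KFlat.isKFlat_extendScalars φ hK₃)
    (isKFlat_koszul g₂) (isKFlat_koszul g₃) r₁ r₂ r₃
  obtain ⟨k₂⟩ := Groth.Agent.S15828.result C g₂ g₃
  obtain ⟨k₁⟩ := Groth.Agent.S15828.result C g₁ (g₂ ++ g₃)
  let all : (DualCx.locD φ).obj T ≅ DerivedCategory.Q.obj (Koszul.koszul C (g₁ ++ (g₂ ++ g₃))) :=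
    (DualCx.locD φ).mapIso a ≪≫ DualCx.locQ φ _ ≪≫ DerivedCategory.Q.mapIso c ≪≫ t ≪≫
      DerivedCategory.Q.mapIso (whiskerLeftIso (Koszul.koszul C g₁) k₂ ≪≫ k₁)
  let h : (DualCx.ext φ).obj ((DerivedCategory.homologyFunctor (ModuleCat.{u} A) i).obj T) ≅
      (Koszul.koszul C (g₁ ++ (g₂ ++ g₃))).homology i :=
    (DualCx.locHD φ T i).symm ≪≫ (DerivedCategory.homologyFunctor (ModuleCat.{u} C) i).mapIso all ≪≫
      (DerivedCategory.homologyFunctorFactors (ModuleCat.{u} C) i).app _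
  obtain ⟨d⟩ := nonempty_ext_algebraMap_iso (C := C) ((DerivedCategory.homologyFunctor (ModuleCat.{u} A) i).obj T)
  exact ⟨(d.symm ≪≫ h).toLinearEquiv⟩

end

end Groth.Agent.TorExcess
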