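import Mathlib
import Groth.Agent.ExtBC.ExtPow
import Groth.Agent.KoszulLib.Change

/-!
Conormal modules along a regular sequence, kernels of surjections of free modules, exterior powers.
-/

set_option autoImplicit false
set_option linter.style.haveILetI false
universe u

namespace Groth.Agent.TorExcess

open TensorProduct

section Basis

variable {A C S : Type u} [CommRing A] [CommRing C] [CommRing S] [Algebra A C] [Algebra C S] [Algebra A S]
  [IsScalarTower A C S] [Module.Flat A C]

/-- A regular sequence generating `I C` gives a basis of `S ⊗ I` when `S` is killed by it. -/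
theorem nonempty_tensor_ideal_equiv (I : Ideal A) {n : ℕ} (a : Fin n → I)
    (hspan : Ideal.span (Set.range fun i => algebraMap A C (a i)) = I.map (algebraMap A C))
    (hH1 : CAlgX.IsH1Regular fun i => algebraMap A C (a i))
    (hS : ∀ i, algebraMap A S (a i) = 0) : Nonempty ((Fin n → S) ≃ₗ[S] S ⊗[A] I) := by
  classical
  let j : C ⊗[A] I →ₗ[C] C :=
    ((Algebra.linearMap A C).comp (Submodule.subtype I)).liftBaseChange C
  have hj : Function.Injective j := by
    have h1 := Module.Flat.lTensor_preserves_injective_linearMap (M := C) (Submodule.subtype I) Subtype.val_injective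
    have h2 : (j : C ⊗[A] I → C) = (TensorProduct.rid A C) ∘ LinearMap.lTensor C (Submodule.subtype I) := by
      funext x
      induction x using TensorProduct.induction_on with
      | zero => simp
      | tmul c y => simp [j, Algebra.smul_def, mul_comm]
      | add x y hx hy => simp only [map_add, hx, hy, Function.comp_apply]
    rw [h2]
    exact (TensorProduct.rid A C).injective.comp h1
  let h : (Fin n → C) →ₗ[C] C ⊗[A] I := Fintype.linearCombination C fun i => (1 : C) ⊗ₜ[A] a i
  have hjh : ∀ c, j (h c) = ∑ i, c i * algebraMap A C (a i) := fun c => by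
    simp [h, j, Fintype.linearCombination_apply, map_sum]
  have hh : Function.Surjective h := fun x => by
    have hx : j x ∈ Ideal.span (Set.range fun i => algebraMap A C (a i)) := by
      rw [hspan]
      induction x using TensorProduct.induction_on with
      | zero => simp
      | tmul c y => simpa [j] using Ideal.mul_mem_left _ c (Ideal.mem_map_of_mem (algebraMap A C) y.2)
      | add x y hx hy => rw [map_add]; exact add_mem hx hy
    obtain ⟨c, hc⟩ := Ideal.mem_span_range_iff_exists_fun.1 hx
    exact ⟨c, hj ((hjh c).trans hc)⟩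
  let π : (Fin n → C) →ₗ[C] (Fin n → S) := LinearMap.pi fun i => (Algebra.linearMap C S).comp (LinearMap.proj i)
  have hker : LinearMap.ker h ≤ LinearMap.ker π := fun c hc => by
    funext i
    have h0 : ∑ i, c i * algebraMap A C (a i) = 0 := by rw [← hjh, hc, map_zero]
    have h1 := KoszulLib.rel_mem hH1 h0 i
    have h2 : Ideal.span (Set.range fun i => algebraMap A C (a i)) ≤ RingHom.ker (algebraMap C S) := by
      rw [Ideal.span_le]
      rintro _ ⟨k, rfl⟩
      show algebraMap C S (algebraMap A C (a k)) = 0
      rw [← IsScalarTower.algebraMap_apply]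
      exact hS k
    exact h2 h1
  let ψ : C ⊗[A] I →ₗ[C] (Fin n → S) :=
    (Submodule.liftQ (LinearMap.ker h) π hker).comp (h.quotKerEquivOfSurjective hh).symm.toLinearMap
  have hψ : ∀ c, ψ (h c) = π c := fun c => by
    show Submodule.liftQ _ π hker ((h.quotKerEquivOfSurjective hh).symm (h c)) = π c
    rw [show (h.quotKerEquivOfSurjective hh).symm (h c) = Submodule.Quotient.mk c from
      (h.quotKerEquivOfSurjective hh).symm_apply_eq.2 rfl]
    rfl
  let L : (Fin n → S) →ₗ[S] S ⊗[A] I := Fintype.linearCombination S fun i => (1 : S) ⊗ₜ[A] a i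
  let Ψ : S ⊗[A] I →ₗ[S] (Fin n → S) :=
    ((ψ.restrictScalars A).comp (TensorProduct.mk A C I 1)).liftBaseChange S
  have hleft : ∀ s, Ψ (L s) = s := fun s => by
    have h1 : ∀ i, ψ ((1 : C) ⊗ₜ[A] a i) = Pi.single i 1 := fun i => by
      have : (1 : C) ⊗ₜ[A] a i = h (Pi.single i 1) := by
        simp [h, Fintype.linearCombination_apply, Pi.single_apply, ite_smul]
      rw [this, hψ]
      funext k
      simp [π, Pi.single_apply, apply_ite (algebraMap C S)]
    simp only [L, Ψ, Fintype.linearCombination_apply, map_sum, map_smul, LinearMap.liftBaseChange_tmul,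
      one_smul, LinearMap.comp_apply, LinearMap.restrictScalars_apply, TensorProduct.mk_apply, h1]
    funext k
    simp [Pi.single_apply]
  let m : C ⊗[A] I →ₗ[C] S ⊗[A] I := (TensorProduct.mk A S I 1).liftBaseChange C
  have hsurj : Function.Surjective L := fun z => by
    induction z using TensorProduct.induction_on with
    | zero => exact ⟨0, map_zero L⟩
    | tmul s y =>
      obtain ⟨c, hc⟩ := hh ((1 : C) ⊗ₜ[A] y)
      refine ⟨s • π c, ?_⟩
      have h1 : m (h c) = L (π c) := by
        simp [h, L, m, π, Fintype.linearCombination_apply, map_sum, algebraMap_smul]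
      rw [map_smul, ← h1, hc]
      simp [m, TensorProduct.smul_tmul']
    | add x y hx hy =>
      obtain ⟨u, rfl⟩ := hx
      obtain ⟨v, rfl⟩ := hy
      exact ⟨u + v, map_add L u v⟩
  exact ⟨LinearEquiv.ofBijective L ⟨Function.LeftInverse.injective hleft, hsurj⟩⟩

end Basis

/-- The kernel of a surjection of finite free modules over a local ring. -/
theorem ker_free_of_surjective {S V W : Type u} [CommRing S] [IsLocalRing S] [AddCommGroup V] [Module S V]
    [AddCommGroup W] [Module S W] [Module.Free S V] [Module.Finite S V] [Module.Free S W] [Module.Finite S W]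
    (f : V →ₗ[S] W) (hf : Function.Surjective f) :
    Module.Free S (LinearMap.ker f) ∧ Module.Finite S (LinearMap.ker f) ∧
      Module.finrank S (LinearMap.ker f) = Module.finrank S V - Module.finrank S W := by
  obtain ⟨s, hs⟩ := f.exists_rightInverse_of_surjective (LinearMap.range_eq_top.2 hf)
  have hs' : ∀ w, f (s w) = w := fun w => LinearMap.congr_fun hs w
  let g : V →ₗ[S] LinearMap.ker f := LinearMap.codRestrict _ (LinearMap.id - s.comp f) fun v => by
    simp [hs']
  have hg : g.comp (LinearMap.ker f).subtype = LinearMap.id := by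
    refine LinearMap.ext fun v => Subtype.ext ?_
    simp [g, show f v.1 = 0 from v.2]
  haveI : Module.Finite S (LinearMap.ker f) := Module.Finite.of_surjective g fun v => ⟨v.1, LinearMap.congr_fun hg v⟩
  haveI : Module.Projective S (LinearMap.ker f) := Module.Projective.of_split _ g hg
  haveI : Module.Free S (LinearMap.ker f) := Module.free_of_flat_of_isLocalRing
  refine ⟨inferInstance, inferInstance, ?_⟩
  let e : V ≃ₗ[S] LinearMap.ker f × W := LinearEquiv.ofLinearMap (g.prod f) ((LinearMap.ker f).subtype.coprod s)
    (by
      refine LinearMap.ext fun x => Prod.ext (Subtype.ext ?_) ?_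
      · simp [g, hs', show f x.1.1 = 0 from x.1.2]
      · simp [hs', show f x.1.1 = 0 from x.1.2])
    (by refine LinearMap.ext fun x => ?_; simp [g])
  rw [e.finrank_eq, Module.finrank_prod]
  omega

/-- Localised exterior powers of a module which becomes free. -/
theorem nonempty_localized_extPow {A R S K : Type u} [CommRing A] [CommRing R] [CommRing S] [Algebra A R]
    [Algebra R S] [Algebra A S] [IsScalarTower A R S] [Nontrivial S] (M : Submonoid A)
    [IsLocalization (Algebra.algebraMapSubmonoid R M) S] [AddCommGroup K] [Module R K]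
    [Module.Free S (S ⊗[R] K)] [Module.Finite S (S ⊗[R] K)] (q : ℕ) :
    Nonempty (LocalizedModule M (RestrictScalars A R ↥(ExteriorAlgebra.exteriorPower R q K)) ≃ₗ[A]
      (Fin ((Module.finrank S (S ⊗[R] K)).choose q) → S)) := by
  let f0 := ExtBC.extMap S (TensorProduct.mk R S K 1) q
  have hb := ExtBC.isBaseChange_extMap (TensorProduct.isBaseChange R K S) q
  haveI : IsLocalizedModule (Algebra.algebraMapSubmonoid R M) f0 :=
    (isLocalizedModule_iff_isBaseChange _ S _).2 hb
  let e : ↥(⋀[S]^q (S ⊗[R] K)) ≃ₗ[S] (Fin ((Module.finrank S (S ⊗[R] K)).choose q) → S) :=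
    ((Module.finBasisOfFinrankEq S _ (exteriorPower.finrank_eq ..)).equivFun)
  let F : ↥(ExteriorAlgebra.exteriorPower R q K) →ₗ[R] (Fin ((Module.finrank S (S ⊗[R] K)).choose q) → S) :=
    (e.toLinearMap.restrictScalars R).comp f0
  haveI : IsLocalizedModule (Algebra.algebraMapSubmonoid R M) F :=
    IsLocalizedModule.of_linearEquiv (Algebra.algebraMapSubmonoid R M) f0 (e.restrictScalars R)
  let G : RestrictScalars A R ↥(ExteriorAlgebra.exteriorPower R q K) →ₗ[A]
      (Fin ((Module.finrank S (S ⊗[R] K)).choose q) → S) :=
    { toFun := fun x => F (RestrictScalars.addEquiv A R _ x)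
      map_add' := fun x y => by simp
      map_smul' := fun a x => by
        rw [RestrictScalars.addEquiv_map_smul, map_smul, RingHom.id_apply, algebraMap_smul] }
  haveI : IsLocalizedModule M G := by
    refine ⟨fun m => ?_, fun y => ?_, fun {x y} h => ?_⟩
    · have h1 := (IsLocalizedModule.map_units F
        (⟨algebraMap A R m, m, m.2, rfl⟩ : Algebra.algebraMapSubmonoid R M))
      rw [Module.End.isUnit_iff] at h1 ⊢
      have h2 : (algebraMap A (Module.End A (Fin ((Module.finrank S (S ⊗[R] K)).choose q) → S)) m :
          (Fin ((Module.finrank S (S ⊗[R] K)).choose q) → S) → _) =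
          algebraMap R (Module.End R (Fin ((Module.finrank S (S ⊗[R] K)).choose q) → S)) (algebraMap A R m) := by
        funext v
        simp [Module.algebraMap_end_apply, algebraMap_smul]
      rw [h2]
      exact h1
    · obtain ⟨⟨x, r, a, ha, rfl⟩, h⟩ := IsLocalizedModule.surj (Algebra.algebraMapSubmonoid R M) F y
      refine ⟨⟨(RestrictScalars.addEquiv A R _).symm x, ⟨a, ha⟩⟩, ?_⟩
      show a • y = F (RestrictScalars.addEquiv A R _ ((RestrictScalars.addEquiv A R _).symm x))
      rw [AddEquiv.apply_symm_apply, ← algebraMap_smul R a y]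
      exact h
    · obtain ⟨⟨r, a, ha, rfl⟩, h'⟩ := IsLocalizedModule.exists_of_eq (S := Algebra.algebraMapSubmonoid R M) (f := F) h
      exact ⟨⟨a, ha⟩, (RestrictScalars.addEquiv A R _).injective (by
        rw [Submonoid.mk_smul, Submonoid.mk_smul, RestrictScalars.addEquiv_map_smul,
          RestrictScalars.addEquiv_map_smul]
        exact h')⟩
  exact ⟨IsLocalizedModule.iso M G⟩

end Groth.Agent.TorExcess
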