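import Groth.Agent.TorExcess.Setup
import Groth.Agent.TorExcess.Conormal
import Groth.Agent.KosSpan.Local

/-!
Excess intersection of three regularly embedded ideals at a prime.
-/

set_option autoImplicit false
set_option linter.style.haveILetI false
set_option maxHeartbeats 1600000
set_option synthInstance.maxHeartbeats 200000
universe u

namespace Groth.Agent.TorExcess

open TensorProduct

theorem subsingleton_localized_restrict {A R : Type u} [CommRing A] [CommRing R] [Algebra A R] (N : Submonoid A)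
    (s : N) (hs : algebraMap A R s = 0) (X : Type u) [AddCommGroup X] [Module R X] :
    Subsingleton (LocalizedModule N (RestrictScalars A R X)) := by
  refine LocalizedModule.subsingleton_iff.2 fun z => ⟨s, s.2, ?_⟩
  refine (RestrictScalars.addEquiv A R X).injective ?_
  rw [RestrictScalars.addEquiv_map_smul, map_zero, hs, zero_smul]

theorem surjective_sum {A : Type u} [CommRing A] {J₁ J₂ J₃ J : Ideal A} (hJ : J = J₁ ⊔ J₂ ⊔ J₃)
    (S : (↥J₁ × (↥J₂ × ↥J₃)) →ₗ[A] ↥J) (hS : ∀ x, (S x : A) = (x.1 : A) + (x.2.1 : A) + (x.2.2 : A)) :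
    Function.Surjective S := fun y => by
  have hy : (y : A) ∈ J₁ ⊔ J₂ ⊔ J₃ := hJ ▸ y.2
  obtain ⟨u, hu, w, hw, huw⟩ := Submodule.mem_sup.1 hy
  obtain ⟨u₁, hu₁, u₂, hu₂, hu'⟩ := Submodule.mem_sup.1 hu
  exact ⟨(⟨u₁, hu₁⟩, ⟨u₂, hu₂⟩, ⟨w, hw⟩), Subtype.ext (by rw [hS, ← huw, ← hu'])⟩


section
variable {A C : Type u} [CommRing A] [CommRing C] [Algebra A C] (p : Ideal A) [p.IsPrime]
    [IsLocalization.AtPrime C p] [IsLocalRing C] [IsRegularLocalRing C] [Module.Flat A C]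
    (J₁ J₂ J₃ J : Ideal A)

/-- The data of compatible regular generators, as a property of a module. -/
def HasExcessRank (q : ℕ) (T : Type u) [AddCommGroup T] [Module A T] : Prop :=
  J ≤ p → ∀ (n₁ n₂ n₃ c : ℕ) (a₁ : Fin n₁ → J₁) (a₂ : Fin n₂ → J₂) (a₃ : Fin n₃ → J₃) (b : Fin c → J),
    Ideal.span (Set.range fun i => algebraMap A C (a₁ i)) = J₁.map (algebraMap A C) →
    Ideal.span (Set.range fun i => algebraMap A C (a₂ i)) = J₂.map (algebraMap A C) →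
    Ideal.span (Set.range fun i => algebraMap A C (a₃ i)) = J₃.map (algebraMap A C) →
    Ideal.span (Set.range fun i => algebraMap A C (b i)) = J.map (algebraMap A C) →
    CAlgX.IsH1Regular (fun i => algebraMap A C (a₁ i)) → CAlgX.IsH1Regular (fun i => algebraMap A C (a₂ i)) →
    CAlgX.IsH1Regular (fun i => algebraMap A C (a₃ i)) → CAlgX.IsH1Regular (fun i => algebraMap A C (b i)) →
    Nonempty (T ≃ₗ[A] (Fin ((n₁ + (n₂ + n₃) - c).choose q) → C ⧸ J.map (algebraMap A C)))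

theorem nonempty_localized_equiv_of_rank (hJ : J = J₁ ⊔ J₂ ⊔ J₃) [IsRegularRing (A ⧸ J₁)] [IsRegularRing (A ⧸ J₂)]
    [IsRegularRing (A ⧸ J₃)] [IsRegularRing (A ⧸ J)]
    (q : ℕ) (M : Type u) [AddCommGroup M] [Module A M]
    (hM : ∀ g₁ g₂ g₃ : List C, RingTheory.Sequence.IsWeaklyRegular C g₁ → RingTheory.Sequence.IsWeaklyRegular C g₂ →
      RingTheory.Sequence.IsWeaklyRegular C g₃ → Ideal.ofList g₁ = J₁.map (algebraMap A C) →
      Ideal.ofList g₂ = J₂.map (algebraMap A C) → Ideal.ofList g₃ = J₃.map (algebraMap A C) →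
      Nonempty (C ⊗[A] M ≃ₗ[C] (Koszul.koszul C (g₁ ++ (g₂ ++ g₃))).homology (-(q : ℤ))))
    (T : Type u) [AddCommGroup T] [Module A T] (hT₀ : ¬J ≤ p → Subsingleton T)
    (hT : HasExcessRank (C := C) p J₁ J₂ J₃ J q T) :
    Nonempty (LocalizedModule p.primeCompl M ≃ₗ[A] T) := by
  classical
  let φ := algebraMap A (C)
  obtain ⟨n₁, a₁, hs₁, hw₁⟩ := exists_local_generators (C := C) p J₁
  obtain ⟨n₂, a₂, hs₂, hw₂⟩ := exists_local_generators (C := C) p J₂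
  obtain ⟨n₃, a₃, hs₃, hw₃⟩ := exists_local_generators (C := C) p J₃
  have hof : ∀ {n : ℕ} (v : Fin n → C),
      Ideal.ofList (List.ofFn v) = Ideal.span (Set.range v) := fun v => by
    rw [Ideal.ofList]
    congr 1
    ext x
    simp [List.mem_ofFn]
  let g₁ := List.ofFn fun i => algebraMap A C (a₁ i)
  let g₂ := List.ofFn fun i => algebraMap A C (a₂ i)
  let g₃ := List.ofFn fun i => algebraMap A C (a₃ i)
  let l := g₁ ++ (g₂ ++ g₃)
  have hl : Ideal.ofList l = J.map φ := by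
    rw [Ideal.ofList_append, Ideal.ofList_append, hof, hof, hof, hs₁, hs₂, hs₃, ← sup_assoc, ← Ideal.map_sup,
      ← Ideal.map_sup, ← hJ]
  obtain ⟨eC⟩ := hM g₁ g₂ g₃ hw₁ hw₂ hw₃ ((hof _).trans hs₁) ((hof _).trans hs₂) ((hof _).trans hs₃)
  haveI : IsLocalizedModule p.primeCompl (TensorProduct.mk A C M 1) :=
    (isLocalizedModule_iff_isBaseChange p.primeCompl C _).2 (TensorProduct.isBaseChange A M C)
  let eA : LocalizedModule p.primeCompl M ≃ₗ[A] C ⊗[A] M :=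
    IsLocalizedModule.iso p.primeCompl (TensorProduct.mk A C M 1)
  by_cases hp : J ≤ p
  swap
  · haveI := hT₀ hp
    haveI : Subsingleton (LocalizedModule p.primeCompl M) := by
      obtain ⟨s, hs, hsp⟩ := Set.not_subset.1 hp
      have h1 : (1 : C) ∈ Ideal.ofList l := by
        rw [hl, Ideal.eq_top_of_isUnit_mem _ (Ideal.mem_map_of_mem φ hs)
          (IsLocalization.map_units _ (⟨s, hsp⟩ : p.primeCompl))]
        trivial
      haveI := ModuleCat.subsingleton_of_isZero (KosSpan.isZero_homology_of_one_mem h1 (-(q : ℤ)))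
      haveI := eC.toEquiv.subsingleton
      exact eA.toEquiv.subsingleton
    exact ⟨LinearEquiv.ofSubsingleton _ _⟩
  haveI := isRegularRing_quot (C := C) p hp
  have hne := map_ne_top (C := C) p hp
  let s : Set A := Set.range (fun i => (a₁ i : A)) ∪ (Set.range (fun i => (a₂ i : A)) ∪ Set.range (fun i => (a₃ i : A)))
  have hs : Ideal.span (φ '' s) = J.map φ := by
    simp only [s, Set.image_union, ← Set.range_comp, Function.comp_def, Ideal.span_union]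
    rw [hs₁, hs₂, hs₃, ← sup_assoc, ← Ideal.map_sup, ← Ideal.map_sup, ← hJ]
  obtain ⟨c, b, hb, hbspan, hbw, hbH1, hbinj⟩ := exists_regular_subfamily (J.map φ) hne s hs
  let f := List.ofFn (φ ∘ b)
  have hfI : Ideal.ofList f = J.map φ := (hof _).trans hbspan
  have hfsub : f ⊆ l := fun x hx => by
    obtain ⟨i, rfl⟩ := List.mem_ofFn.1 hx
    simp only [l, g₁, g₂, g₃, List.mem_append, List.mem_ofFn]
    rcases hb i with ⟨j, hj⟩ | ⟨j, hj⟩ | ⟨j, hj⟩
    · exact Or.inl ⟨j, congrArg φ hj⟩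
    · exact Or.inr (Or.inl ⟨j, congrArg φ hj⟩)
    · exact Or.inr (Or.inr ⟨j, congrArg φ hj⟩)
  obtain ⟨eK⟩ := KosSpan.nonempty_homology_koszul (List.nodup_ofFn.2 hbinj) hfsub hbw
    (fun y hy => hfI.symm ▸ hl ▸ Ideal.subset_span hy) q
  have hJ1 : J₁ ≤ J := hJ ▸ le_sup_left.trans le_sup_left
  have hJ2 : J₂ ≤ J := hJ ▸ le_sup_right.trans le_sup_left
  have hJ3 : J₃ ≤ J := hJ ▸ le_sup_right
  have hbJ : ∀ i, b i ∈ J := fun i => by
    rcases hb i with ⟨j, hj⟩ | ⟨j, hj⟩ | ⟨j, hj⟩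
    · exact hj ▸ hJ1 (a₁ j).2
    · exact hj ▸ hJ2 (a₂ j).2
    · exact hj ▸ hJ3 (a₃ j).2
  obtain ⟨eR⟩ := hT hp n₁ n₂ n₃ c a₁ a₂ a₃ (fun i => ⟨b i, hbJ i⟩) hs₁ hs₂ hs₃ hbspan
    (isH1Regular_of_isWeaklyRegular hw₁) (isH1Regular_of_isWeaklyRegular hw₂) (isH1Regular_of_isWeaklyRegular hw₃) hbH1
  have hlen : l.length - f.length = n₁ + (n₂ + n₃) - c := by simp [l, g₁, g₂, g₃, f]
  let eF : (Fin ((l.length - f.length).choose q) → C ⧸ Ideal.ofList f) ≃ₗ[C]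
      (Fin ((n₁ + (n₂ + n₃) - c).choose q) → C ⧸ J.map φ) :=
    (LinearEquiv.piCongrRight fun _ => Submodule.quotEquivOfEq _ _ hfI) ≪≫ₗ
      LinearEquiv.funCongrLeft _ _ (finCongr (by rw [hlen]))
  exact ⟨eA ≪≫ₗ (eC ≪≫ₗ eK ≪≫ₗ eF).restrictScalars A ≪≫ₗ eR.symm⟩

end

theorem ker_baseChange_free {A R S' : Type u} [CommRing A] [CommRing R] [CommRing S'] [IsLocalRing S'] [Algebra A R]
    [Algebra R S'] [Algebra A S'] [IsScalarTower A R S'] [Module.Flat R S'] {J₁ J₂ J₃ J : Ideal A} {n₁ n₂ n₃ c : ℕ}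
    (e₁ : (Fin n₁ → S') ≃ₗ[S'] S' ⊗[A] J₁) (e₂ : (Fin n₂ → S') ≃ₗ[S'] S' ⊗[A] J₂)
    (e₃ : (Fin n₃ → S') ≃ₗ[S'] S' ⊗[A] J₃) (eJ : (Fin c → S') ≃ₗ[S'] S' ⊗[A] J)
    (S : (↥J₁ × (↥J₂ × ↥J₃)) →ₗ[A] ↥J) (hSs : Function.Surjective S) :
    Module.Free S' (S' ⊗[R] LinearMap.ker (S.baseChange R)) ∧
      Module.Finite S' (S' ⊗[R] LinearMap.ker (S.baseChange R)) ∧
      Module.finrank S' (S' ⊗[R] LinearMap.ker (S.baseChange R)) = n₁ + (n₂ + n₃) - c := by
  let eV : ((Fin n₁ → S') × ((Fin n₂ → S') × (Fin n₃ → S'))) ≃ₗ[S'] S' ⊗[A] (↥J₁ × (↥J₂ × ↥J₃)) :=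
    e₁.prodCongr (e₂.prodCongr e₃ ≪≫ₗ (TensorProduct.prodRight A S' S' ↥J₂ ↥J₃).symm) ≪≫ₗ
      (TensorProduct.prodRight A S' S' ↥J₁ (↥J₂ × ↥J₃)).symm
  let cV := AlgebraTensorModule.cancelBaseChange A R S' S' (↥J₁ × (↥J₂ × ↥J₃))
  let cJ := AlgebraTensorModule.cancelBaseChange A R S' S' ↥J
  haveI := Module.Free.of_equiv (eV ≪≫ₗ cV.symm)
  haveI := Module.Finite.equiv (eV ≪≫ₗ cV.symm)
  haveI := Module.Free.of_equiv (eJ ≪≫ₗ cJ.symm)
  haveI := Module.Finite.equiv (eJ ≪≫ₗ cJ.symm)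
  let g := S.baseChange R
  have hg : Function.Surjective g := LinearMap.lTensor_surjective _ hSs
  let g' := AlgebraTensorModule.lTensor S' S' g
  obtain ⟨hfree, hfin, hrank⟩ := ker_free_of_surjective g' (LinearMap.lTensor_surjective S' hg)
  let eKer := LinearMap.tensorKerEquiv S' S' g
  haveI := hfree
  haveI := hfin
  refine ⟨Module.Free.of_equiv eKer.symm, Module.Finite.equiv eKer.symm, ?_⟩
  rw [eKer.finrank_eq, hrank, ← (eV ≪≫ₗ cV.symm).finrank_eq, ← (eJ ≪≫ₗ cJ.symm).finrank_eq]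
  simp [Module.finrank_prod]

theorem hasExcessRank_extPow {A C : Type u} [CommRing A] [CommRing C] [Algebra A C] (p : Ideal A) [p.IsPrime]
    [IsLocalization.AtPrime C p] [IsLocalRing C] [IsRegularLocalRing C] [Module.Flat A C]
    (J₁ J₂ J₃ J : Ideal A) (hJ : J = J₁ ⊔ J₂ ⊔ J₃)
    (S : (↥J₁ × (↥J₂ × ↥J₃)) →ₗ[A] ↥J) (hS : ∀ x, (S x : A) = (x.1 : A) + (x.2.1 : A) + (x.2.2 : A)) (q : ℕ) :
    HasExcessRank (C := C) p J₁ J₂ J₃ J q (LocalizedModule p.primeCompl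
      (RestrictScalars A (A ⧸ J)
        ↥(ExteriorAlgebra.exteriorPower (A ⧸ J) q ↥(LinearMap.ker (S.baseChange (A ⧸ J)))))) := by
  intro hp n₁ n₂ n₃ c a₁ a₂ a₃ b hs₁ hs₂ hs₃ hbspan h₁ h₂ h₃ hb
  let φ := algebraMap A C
  have hne := map_ne_top (C := C) p hp
  let S' := C ⧸ J.map φ
  letI : Algebra (A ⧸ J) S' := (Ideal.quotientMap (J.map φ) φ Ideal.le_comap_map).toAlgebra
  haveI : IsScalarTower A (A ⧸ J) S' := IsScalarTower.of_algebraMap_eq' rfl
  haveI hloc : IsLocalization (Algebra.algebraMapSubmonoid (A ⧸ J) p.primeCompl) S' :=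
    IsLocalization.of_surjective p.primeCompl (S := C) (R' := A ⧸ J) (S' := S')
      (Ideal.Quotient.mk J) Ideal.Quotient.mk_surjective (Ideal.Quotient.mk _) Ideal.Quotient.mk_surjective
      (RingHom.ext fun x => rfl) (by rw [Ideal.mk_ker, Ideal.mk_ker])
  haveI : Nontrivial S' := Ideal.Quotient.nontrivial_iff.2 hne
  haveI : IsLocalRing S' := .of_surjective' (Ideal.Quotient.mk _) Ideal.Quotient.mk_surjective
  haveI : Module.Flat (A ⧸ J) S' := IsLocalization.flat S' (Algebra.algebraMapSubmonoid (A ⧸ J) p.primeCompl)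
  have hkill : ∀ x ∈ J, algebraMap A S' x = 0 := fun x hx =>
    Ideal.Quotient.eq_zero_iff_mem.2 (Ideal.mem_map_of_mem φ hx)
  have hJ1 : J₁ ≤ J := hJ ▸ le_sup_left.trans le_sup_left
  have hJ2 : J₂ ≤ J := hJ ▸ le_sup_right.trans le_sup_left
  have hJ3 : J₃ ≤ J := hJ ▸ le_sup_right
  have hSs : Function.Surjective S := surjective_sum hJ S hS
  have hk := ker_baseChange_free (R := A ⧸ J)
    (nonempty_tensor_ideal_equiv (S := S') J₁ a₁ hs₁ h₁ fun i => hkill _ (hJ1 (a₁ i).2)).some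
    (nonempty_tensor_ideal_equiv (S := S') J₂ a₂ hs₂ h₂ fun i => hkill _ (hJ2 (a₂ i).2)).some
    (nonempty_tensor_ideal_equiv (S := S') J₃ a₃ hs₃ h₃ fun i => hkill _ (hJ3 (a₃ i).2)).some
    (nonempty_tensor_ideal_equiv (S := S') J b hbspan hb fun i => hkill _ (b i).2).some S hSs
  haveI := hk.1
  haveI := hk.2.1
  rw [← hk.2.2]
  exact nonempty_localized_extPow p.primeCompl q

theorem nonempty_localized_equiv {A C : Type u} [CommRing A] [CommRing C] [Algebra A C] (p : Ideal A) [p.IsPrime]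
    [IsLocalization.AtPrime C p] [IsLocalRing C] [IsRegularLocalRing C] [Module.Flat A C]
    (J₁ J₂ J₃ J : Ideal A) (hJ : J = J₁ ⊔ J₂ ⊔ J₃) [IsRegularRing (A ⧸ J₁)] [IsRegularRing (A ⧸ J₂)]
    [IsRegularRing (A ⧸ J₃)] [IsRegularRing (A ⧸ J)]
    (S : (↥J₁ × (↥J₂ × ↥J₃)) →ₗ[A] ↥J) (hS : ∀ x, (S x : A) = (x.1 : A) + (x.2.1 : A) + (x.2.2 : A))
    (q : ℕ) (M : Type u) [AddCommGroup M] [Module A M]
    (hM : ∀ g₁ g₂ g₃ : List C, RingTheory.Sequence.IsWeaklyRegular C g₁ → RingTheory.Sequence.IsWeaklyRegular C g₂ →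
      RingTheory.Sequence.IsWeaklyRegular C g₃ → Ideal.ofList g₁ = J₁.map (algebraMap A C) →
      Ideal.ofList g₂ = J₂.map (algebraMap A C) → Ideal.ofList g₃ = J₃.map (algebraMap A C) →
      Nonempty (C ⊗[A] M ≃ₗ[C] (Koszul.koszul C (g₁ ++ (g₂ ++ g₃))).homology (-(q : ℤ)))) :
    Nonempty (LocalizedModule p.primeCompl M ≃ₗ[A] LocalizedModule p.primeCompl
      (RestrictScalars A (A ⧸ J)
        ↥(ExteriorAlgebra.exteriorPower (A ⧸ J) q ↥(LinearMap.ker (S.baseChange (A ⧸ J)))))) :=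
  nonempty_localized_equiv_of_rank p J₁ J₂ J₃ J hJ q M hM _
    (fun hp => subsingleton_localized_restrict p.primeCompl
      ⟨(Set.not_subset.1 hp).choose, (Set.not_subset.1 hp).choose_spec.2⟩
      (Ideal.Quotient.eq_zero_iff_mem.2 (Set.not_subset.1 hp).choose_spec.1) _)
    (hasExcessRank_extPow p J₁ J₂ J₃ J hJ S hS q)

end Groth.Agent.TorExcess
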