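import Groth.Agent.KosSpan.Local
import Groth.Agent.KChi.TorKoszul
import Groth.Agent.ExtBC.ExtPow
import Groth.Prelude.Def_LCI2
import Mathlib.CategoryTheory.Monoidal.Tor

/-!
`Tor` of two Koszul-regular quotients with a common part.
-/

set_option autoImplicit false
set_option linter.style.haveILetI false
universe u

namespace Groth.Agent.TorExcess

open CategoryTheory Limits HomologicalComplex MonoidalCategory CochainComplex
open Groth.Agent.CechX Groth.Agent.KosSpan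
open TensorProduct

variable {A : Type u} [CommRing A]

theorem smul_hom (a : A) {X Y : ModuleCat.{u} A} (φ : X ⟶ Y) (x : X) : φ (a • x) = a • φ x :=
  φ.hom.map_smul a x

/-- Cones of scalars preserve quasi-isomorphisms. -/
theorem qIso_mconeMap (a : A) {K L : CochainComplex (ModuleCat.{u} A) ℤ} {f : K ⟶ L} (hf : QIso f) :
    QIso (mconeMap a f) := by
  have comm : ∀ (p q : ℤ) (x : K.X p), f.f q (K.d p q x) = L.d p q (f.f p x) := fun p q x =>
    congrArg (fun g => g.hom x) (f.comm p q).symm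
  refine ⟨fun q p hqp z' hz' => ?_, fun q p hqp z hz y' hy' => ?_⟩
  · have h1 := c1_d (φ := a • 𝟙 L) (rfl : p + 1 = p + 1) (rfl : p + 1 + 1 = p + 1 + 1) z'
    have h2 := c2_d (φ := a • 𝟙 L) (rfl : p + 1 = p + 1) z'
    rw [hz', map_zero] at h1 h2
    rw [CechX.smul_id_f_apply] at h2
    set x' := c1 (a • 𝟙 L) p (p + 1) rfl z'
    set y₁ := c2 (a • 𝟙 L) p z'
    obtain ⟨x, hx, u, hu⟩ := hf.surj p (p + 1) rfl x' (neg_eq_zero.1 h1.symm)
    obtain ⟨v, hv⟩ := hf.inj p (p + 1) rfl (a • x) (by rw [smul_hom, hx, smul_zero]) (-y₁ - a • u) (by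
      rw [map_sub, map_neg, smul_hom, hu, smul_hom, smul_sub, eq_neg_of_add_eq_zero_right h2.symm]
      abel)
    obtain ⟨y, hy, w, hw⟩ := hf.surj q p hqp (y₁ + f.f p v + a • u) (by
      rw [map_add, map_add, ← comm, hv, smul_hom, smul_hom, hu, smul_sub,
        eq_neg_of_add_eq_zero_right h2.symm]
      abel)
    refine ⟨cmk (a • 𝟙 K) p (p + 1) rfl x (y - v), ?_, cmk (a • 𝟙 L) q p hqp (-u) w, cone_ext (rfl : p + 1 = p + 1) ?_ ?_⟩
    · refine cone_ext (rfl : p + 1 + 1 = p + 1 + 1) ?_ ?_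
      · rw [c1_d rfl rfl, c1_cmk, hx, neg_zero, map_zero]
      · rw [c2_d rfl, c1_cmk, c2_cmk, CechX.smul_id_f_apply, map_sub, hy, hv, map_zero]
        abel
    · rw [c1_d hqp rfl, c1_cmk, map_neg, neg_neg, hu, map_sub, mconeMap, c1_map, c1_cmk]
    · rw [c2_d hqp, c1_cmk, c2_cmk, CechX.smul_id_f_apply, hw, map_sub, mconeMap, c2_map, c2_cmk, map_sub, smul_neg]
      abel
  · have h1 := c1_d (φ := a • 𝟙 K) (rfl : p + 1 = p + 1) (rfl : p + 1 + 1 = p + 1 + 1) z
    have h2 := c2_d (φ := a • 𝟙 K) (rfl : p + 1 = p + 1) z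
    rw [hz, map_zero] at h1 h2
    rw [CechX.smul_id_f_apply] at h2
    have e1 := c1_map (φ := a • 𝟙 K) (φ' := a • 𝟙 L) f f (mcone_comm a f) (rfl : p + 1 = p + 1) z
    have e2 := c2_map (φ := a • 𝟙 K) (φ' := a • 𝟙 L) f f (mcone_comm a f) p z
    rw [← mconeMap, ← hy', c1_d hqp rfl] at e1
    rw [← mconeMap, ← hy', c2_d hqp, CechX.smul_id_f_apply] at e2
    set x := c1 (a • 𝟙 K) p (p + 1) rfl z
    set y := c2 (a • 𝟙 K) p z
    set u' := c1 (a • 𝟙 L) q p hqp y'
    set w' := c2 (a • 𝟙 L) q y'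
    obtain ⟨u, hu⟩ := hf.inj p (p + 1) rfl x (neg_eq_zero.1 h1.symm) (-u') (by rw [map_neg, e1])
    obtain ⟨c, hc, t, ht⟩ := hf.surj q p hqp (f.f p u + u') (by
      rw [map_add, ← comm, hu, ← e1]
      abel)
    obtain ⟨s, hs⟩ := hf.inj q p hqp (y + a • (u - c)) (by
      rw [map_add, smul_hom, map_sub, hu, hc, sub_zero, eq_neg_of_add_eq_zero_right h2.symm]
      abel) (w' + a • t) (by
      rw [map_add, map_add, smul_hom, smul_hom, ht, map_sub, ← e2, smul_sub, smul_sub, smul_add]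
      abel)
    refine ⟨cmk (a • 𝟙 K) q p hqp (-(u - c)) s, cone_ext (rfl : p + 1 = p + 1) ?_ ?_⟩
    · rw [c1_d hqp rfl, c1_cmk, map_neg, neg_neg, map_sub, hu, hc, sub_zero]
    · rw [c2_d hqp, c1_cmk, c2_cmk, CechX.smul_id_f_apply, hs, smul_neg]
      abel

theorem qIso_KC {K L : CochainComplex (ModuleCat.{u} A) ℤ} {f : K ⟶ L} (hf : QIso f) :
    ∀ l : List A, ∃ F : KC l K ⟶ KC l L, QIso F
  | [] => ⟨f, hf⟩
  | a :: l => (qIso_KC hf l).elim fun F hF => ⟨mconeMap a F, qIso_mconeMap a hF⟩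

/-- The augmentation of a Koszul-regular sequence. -/
theorem exists_qIso_quot (l : List A) (hl : LCI.IsKoszulRegularSeq A l) :
    ∃ π : KC l (single0 (ModuleCat.of A A)) ⟶ single0 (ModuleCat.of A (A ⧸ Ideal.ofList l)), QIso π := by
  have hreg : ∀ i : ℤ, i ≠ 0 → IsZero ((KC l (single0 (ModuleCat.of A A))).homology i) := fun i hi => by
    rw [← KosSpan.koszul_eq]; exact hl i hi
  obtain ⟨e, he⟩ := exists_equiv_zero (ModuleCat.of A A) l
  have hK : CohIII.koszulCx (ModuleCat.of A A) l = KC l (single0 (ModuleCat.of A A)) := koszulCx_eq _ l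
  have hzero : ∀ (p : ℤ), 0 < p → ∀ x : (KC l (single0 (ModuleCat.of A A))).X p, x = 0 := hK ▸ koszulCx_eq_zero _ l
  revert e he hreg hzero
  rw [← hK]
  intro hreg e he hzero
  let K := CohIII.koszulCx (ModuleCat.of A A) l
  have he' : ∀ x, (∃ y, K.d (-1) 0 y = x) ↔ e x ∈ Ideal.ofList l := fun x => by
    rw [he x, smul_eq_mul, Ideal.mul_top]
  let g : K.X 0 ⟶ ModuleCat.of A (A ⧸ Ideal.ofList l) :=
    ModuleCat.ofHom ((Submodule.mkQ (Ideal.ofList l)).comp e.toLinearMap)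
  let T := (HomologicalComplex.singleObjXSelf (ComplexShape.up ℤ) 0 (ModuleCat.of A (A ⧸ Ideal.ofList l))).toLinearEquiv
  let π : K ⟶ single0 (ModuleCat.of A (A ⧸ Ideal.ofList l)) :=
    HomologicalComplex.mkHomToSingle g fun i hi => by
      obtain rfl : i = -1 := by simp at hi; omega
      refine ModuleCat.hom_ext (LinearMap.ext fun y => ?_)
      exact (Submodule.Quotient.mk_eq_zero _).2 ((he' _).1 ⟨y, rfl⟩)
  have hπ : ∀ x, T (π.f 0 x) = Submodule.Quotient.mk (e x) := fun x => by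
    have : π.f 0 = g ≫ (HomologicalComplex.singleObjXSelf (ComplexShape.up ℤ) 0 _).inv :=
      HomologicalComplex.mkHomToSingle_f ..
    rw [this]
    exact T.apply_symm_apply _
  refine ⟨π, fun q p hqp x' hx' => ?_, fun q p hqp x hx y' hy' => ?_⟩
  · by_cases hp : p = 0
    · subst hp
      obtain ⟨z, hz⟩ := Submodule.Quotient.mk_surjective _ (T x')
      refine ⟨e.symm z, hzero _ (by omega) _, 0, ?_⟩
      rw [map_zero, eq_comm, sub_eq_zero]
      exact T.injective (by rw [hπ, e.apply_symm_apply, hz])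
    · refine ⟨0, map_zero _, 0, ?_⟩
      rw [single0_eq_zero _ p (by omega) x', map_zero, map_zero, sub_zero]
  · by_cases hp : p = 0
    · subst hp
      obtain rfl : q = -1 := by omega
      refine (he' x).2 ((Submodule.Quotient.mk_eq_zero _).1 ?_)
      rw [← hπ, ← hy', single0_eq_zero _ (-1) (by omega) y', map_zero, map_zero]
    · exact (CechX.isZero_homology_iff p q hqp).1 (hreg p hp) x hx

/-- The cone of zero. -/
theorem nonempty_homology_mcone_zero {a : A} {K : CochainComplex (ModuleCat.{u} A) ℤ}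
    (h : ∀ (p : ℤ) (x : K.X p), a • x = 0) (p : ℤ) :
    Nonempty (↑((mcone a K).homology p) ≃ₗ[A] ↑(K.homology (p + 1)) × ↑(K.homology p)) :=
  nonempty_homology_mcone ⟨fun _ _ _ => 0, fun o p q _ _ x => by simp [h p x]⟩ p

theorem smul_eq_zero_KC {a : A} : ∀ (l : List A) {K : CochainComplex (ModuleCat.{u} A) ℤ}
    (_ : ∀ (p : ℤ) (x : K.X p), a • x = 0) (p : ℤ) (x : (KC l K).X p), a • x = 0
  | [], _, h, p, x => h p x
  | b :: l, K, h, p, x =>
    cone_ext (φ := b • 𝟙 (KC l K)) (rfl : p + 1 = p + 1)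
      (((c1 (b • 𝟙 (KC l K)) p (p + 1) rfl).map_smul a x).trans ((smul_eq_zero_KC l h _ _).trans (map_zero _).symm))
      (((c2 (b • 𝟙 (KC l K)) p).map_smul a x).trans ((smul_eq_zero_KC l h _ _).trans (map_zero _).symm))

/-- Koszul homology of elements killing a complex with homology only in degree zero. -/
theorem homology_KC_of_smul_eq_zero (N : Type u) [AddCommGroup N] [Module A N]
    {K : CochainComplex (ModuleCat.{u} A) ℤ} (hK : ∀ i : ℤ, i ≠ 0 → Subsingleton (K.homology i))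
    (e : ↑(K.homology 0) ≃ₗ[A] N) : ∀ l : List A, (∀ a ∈ l, ∀ (p : ℤ) (x : K.X p), a • x = 0) →
    (∀ j : ℤ, 0 < j → Subsingleton ((KC l K).homology j)) ∧
      ∀ i : ℕ, Nonempty (↑((KC l K).homology (-(i : ℤ))) ≃ₗ[A] (Fin (l.length.choose i) → N))
  | [], _ => by
    refine ⟨fun j hj => hK j (by omega), fun i => ?_⟩
    cases i with
    | zero => exact ⟨(show ↑(K.homology (-((0 : ℕ) : ℤ))) ≃ₗ[A] N from e) ≪≫ₗ (LinearEquiv.funUnique (Fin 1) A N).symm⟩
    | succ i =>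
      haveI := hK (-((i + 1 : ℕ) : ℤ)) (by omega)
      haveI : Subsingleton ↑((KC ([] : List A) K).homology (-((i + 1 : ℕ) : ℤ))) := this
      haveI : IsEmpty (Fin (([] : List A).length.choose (i + 1))) := by simp; infer_instance
      exact ⟨LinearEquiv.ofSubsingleton _ _⟩
  | a :: l, h => by
    obtain ⟨hpos, hneg⟩ := homology_KC_of_smul_eq_zero N hK e l fun b hb => h b (List.mem_cons_of_mem _ hb)
    have hz := smul_eq_zero_KC l (h a List.mem_cons_self)
    refine ⟨fun j hj => ?_, fun i => ?_⟩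
    · haveI := hpos j hj
      haveI := hpos (j + 1) (by omega)
      obtain ⟨s⟩ := nonempty_homology_mcone_zero hz j
      exact s.toEquiv.subsingleton
    · obtain ⟨s⟩ := nonempty_homology_mcone_zero hz (-(i : ℤ))
      cases i with
      | zero =>
        haveI := hpos (-((0 : ℕ) : ℤ) + 1) (by norm_num)
        haveI : Unique ↑((KC l K).homology (-((0 : ℕ) : ℤ) + 1)) := uniqueOfSubsingleton 0
        obtain ⟨t⟩ := hneg 0
        exact ⟨s ≪≫ₗ LinearEquiv.uniqueProd ≪≫ₗ t ≪≫ₗ LinearEquiv.funCongrLeft A N (finCongr (by simp))⟩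
      | succ i =>
        obtain ⟨t₁⟩ := hneg i
        obtain ⟨t₂⟩ := hneg (i + 1)
        let c := (eqToIso (congrArg (fun j => (KC l K).homology j)
          (show -((i + 1 : ℕ) : ℤ) + 1 = -(i : ℤ) by push_cast; ring))).toLinearEquiv
        exact ⟨s ≪≫ₗ (c ≪≫ₗ t₁).prodCongr t₂ ≪≫ₗ (LinearEquiv.sumArrowLequivProdArrow _ _ A N).symm ≪≫ₗ
          LinearEquiv.funCongrLeft A N ((finCongr (by rw [List.length_cons, Nat.choose_succ_succ])).trans
            finSumFinEquiv.symm)⟩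

theorem ofList_perm {l l' : List A} (h : l.Perm l') : Ideal.ofList l = Ideal.ofList l' := by
  rw [Ideal.ofList, Ideal.ofList]
  congr 1
  ext x
  exact h.mem_iff

/-- The Koszul computation. -/
theorem nonempty_homology_excess (f g h : List A) (hfg : LCI.IsKoszulRegularSeq A (f ++ g))
    (hfgh : LCI.IsKoszulRegularSeq A (f ++ g ++ h)) (i : ℕ) :
    Nonempty (↑((KC (f ++ h) (single0 (ModuleCat.of A (A ⧸ Ideal.ofList (f ++ g))))).homology (-(i : ℤ))) ≃ₗ[A]
      (Fin (f.length.choose i) → A ⧸ Ideal.ofList (f ++ g ++ h))) := by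
  obtain ⟨π, hπ⟩ := exists_qIso_quot (f ++ g) hfg
  obtain ⟨F, hF⟩ := qIso_KC hπ h
  obtain ⟨p⟩ := kc_perm (List.perm_append_comm (l₁ := h) (l₂ := f ++ g)) (single0 (ModuleCat.of A A))
  let E : ∀ j : ℤ, ↑((KC h (single0 (ModuleCat.of A (A ⧸ Ideal.ofList (f ++ g))))).homology j) ≃ₗ[A]
      ↑((Koszul.koszul A (f ++ g ++ h)).homology j) := fun j =>
    (hF.equiv j).symm ≪≫ₗ (homologyMapIso (eqToIso (KC_append h (f ++ g) _).symm ≪≫ p ≪≫
      eqToIso (KosSpan.koszul_eq (f ++ g ++ h)).symm) j).toLinearEquiv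
  obtain ⟨e0⟩ := nonempty_top_equiv (ModuleCat.of A A) (f ++ g ++ h)
  let e : ↑((KC h (single0 (ModuleCat.of A (A ⧸ Ideal.ofList (f ++ g))))).homology 0) ≃ₗ[A]
      A ⧸ Ideal.ofList (f ++ g ++ h) :=
    E 0 ≪≫ₗ (homologyMapIso (eqToIso ((KosSpan.koszul_eq (f ++ g ++ h)).trans (koszulCx_eq _ _).symm)) 0).toLinearEquiv ≪≫ₗ
      e0 ≪≫ₗ Submodule.quotEquivOfEq _ _ (by rw [smul_eq_mul, Ideal.mul_top])
  have hz : ∀ a ∈ f, ∀ (q : ℤ) (x : (KC h (single0 (ModuleCat.of A (A ⧸ Ideal.ofList (f ++ g))))).X q), a • x = 0 := by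
    intro a ha
    refine smul_eq_zero_KC h fun q x => ?_
    by_cases hq : q = 0
    · subst hq
      let T := (singleObjXSelf (ComplexShape.up ℤ) 0 (ModuleCat.of A (A ⧸ Ideal.ofList (f ++ g)))).toLinearEquiv
      refine T.injective ?_
      rw [map_smul, map_zero]
      obtain ⟨z, hz⟩ := Submodule.Quotient.mk_surjective _ (T x)
      rw [← hz, ← Submodule.Quotient.mk_smul, Submodule.Quotient.mk_eq_zero, smul_eq_mul]
      exact Ideal.mul_mem_right _ _ (Ideal.subset_span (List.mem_append_left _ ha))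
    · rw [single0_eq_zero _ q (by omega) x, smul_zero]
  obtain ⟨t⟩ := (homology_KC_of_smul_eq_zero (A ⧸ Ideal.ofList (f ++ g ++ h)) (fun j hj => by
    haveI := ModuleCat.subsingleton_of_isZero (hfgh j hj)
    exact (E j).toEquiv.subsingleton) e f hz).2 i
  exact ⟨(homologyMapIso (eqToIso (KC_append f h _)) (-(i : ℤ))).toLinearEquiv ≪≫ₗ t⟩

/-- A Koszul-regular sequence gives a projective resolution. -/
theorem exists_resolution' (l : List A) (hl : LCI.IsKoszulRegularSeq A l) :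
    ∃ P : ProjectiveResolution (ModuleCat.of A (A ⧸ Ideal.ofList l)), P.complex = KChi.kch l := by
  obtain ⟨g, hg, hker⟩ := KChi.exists_augmentation l
  have hw : (KChi.kch l).d 1 0 ≫ (ModuleCat.ofHom g :
      (KChi.kch l).X 0 ⟶ ModuleCat.of A (A ⧸ Ideal.ofList l)) = 0 := by
    rw [KChi.kch_d l 1 0 rfl]
    exact ModuleCat.hom_ext (LinearMap.ext fun y => (hker _).2 ⟨y, rfl⟩)
  let π : KChi.kch l ⟶ (ChainComplex.single₀ (ModuleCat.{u} A)).obj (ModuleCat.of A (A ⧸ Ideal.ofList l)) :=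
    ((KChi.kch l).toSingle₀Equiv _).symm ⟨ModuleCat.ofHom g, hw⟩
  refine ⟨{ complex := KChi.kch l, π := π, quasiIso := ⟨fun n => ?_⟩ }, rfl⟩
  cases n with
  | succ m =>
    rw [quasiIsoAt_iff_exactAt' π _ (ChainComplex.exactAt_succ_single_obj _ _),
      exactAt_iff_isZero_homology, FlatCx.isZero_homology_iff (K := KChi.kch l) (i := m + 2) (k := m) (by simp) (by simp)]
    intro z hz
    rw [KChi.kch_d l (m + 1) m rfl] at hz
    rw [KChi.kch_d l (m + 2) (m + 1) rfl]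
    exact (FlatCx.isZero_homology_iff (K := Koszul.koszul A l) (i := -((m + 2 : ℕ) : ℤ)) (k := -(m : ℤ))
      (by simp; ring) (by simp)).1 (hl (-((m + 1 : ℕ) : ℤ)) (by omega)) z hz
  | zero =>
    rw [quasiIsoAt_iff_isIso_homologyMap, ConcreteCategory.isIso_iff_bijective]
    have hf0 : π.f 0 = (ModuleCat.ofHom g : (KChi.kch l).X 0 ⟶ ModuleCat.of A (A ⧸ Ideal.ofList l)) :=
      ChainComplex.toSingle₀Equiv_symm_apply_f_zero _ _
    refine ⟨(FlatCx.homologyMap_injective_iff π (i := 1) (k := 0) (by simp) (by simp)).2 ?_,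
      (FlatCx.homologyMap_surjective_iff π (i := 1) (k := 0) (by simp) (by simp)).2 ?_⟩
    · intro z _ hb
      rw [hf0] at hb
      obtain ⟨y, hy⟩ := hb
      rw [HomologicalComplex.single_obj_d] at hy
      obtain ⟨w, hw'⟩ := (hker z).1 hy.symm
      exact ⟨w, by rw [KChi.kch_d l 1 0 rfl]; exact hw'⟩
    · intro z _
      obtain ⟨z', hz'⟩ := hg z
      refine ⟨z', ?_, ?_⟩
      · rw [(KChi.kch l).shape 0 0 (by simp)]; rfl
      · rw [hf0]
        exact ⟨0, (map_zero _).trans (sub_eq_zero.2 hz').symm⟩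

/-- `Tor` into the cyclic module of a Koszul-regular sequence. -/
theorem nonempty_tor_iso (l : List A) (hl : LCI.IsKoszulRegularSeq A l) (M : ModuleCat.{u} A) (p : ℕ) :
    Nonempty (((CategoryTheory.Tor (ModuleCat.{u} A) (p + 1)).obj M).obj (ModuleCat.of A (A ⧸ Ideal.ofList l)) ≅
      (KC l (single0 M)).homology (-((p + 1 : ℕ) : ℤ))) := by
  obtain ⟨P, hP⟩ := exists_resolution' l hl
  let G := (tensoringLeft (ModuleCat.{u} A)).obj M
  let e0 := P.isoLeftDerivedObj G (p + 1)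
  rw [hP] at e0
  let C := (G.mapHomologicalComplex (ComplexShape.down ℕ)).obj (KChi.kch l)
  let D := DRing.tensorCx (Koszul.koszul A l) M
  let e : C.sc' (p + 2) (p + 1) p ≅ D.sc' (-((p + 2 : ℕ) : ℤ)) (-((p + 1 : ℕ) : ℤ)) (-(p : ℤ)) :=
    ShortComplex.isoMk (β_ _ _) (β_ _ _) (β_ _ _)
      (by
        show (β_ M _).hom ≫ ((Koszul.koszul A l).d _ _) ▷ M = M ◁ ((KChi.kch l).d (p + 2) (p + 1)) ≫ (β_ M _).hom
        rw [KChi.kch_d l (p + 2) (p + 1) rfl]
        exact (BraidedCategory.braiding_naturality_right M _).symm)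
      (by
        show (β_ M _).hom ≫ ((Koszul.koszul A l).d _ _) ▷ M = M ◁ ((KChi.kch l).d (p + 1) p) ≫ (β_ M _).hom
        rw [KChi.kch_d l (p + 1) p rfl]
        exact (BraidedCategory.braiding_naturality_right M _).symm)
  exact ⟨e0 ≪≫ (C.homologyIsoSc' (p + 2) (p + 1) p (by simp) (by simp) ≪≫ ShortComplex.homologyMapIso e ≪≫
    (D.homologyIsoSc' _ (-((p + 1 : ℕ) : ℤ)) _ (by simp; ring) (by simp)).symm) ≪≫
    homologyMapIso (tensorKoszulIso M l) _⟩

theorem isBaseChange_id {R : Type u} [CommRing R] [Algebra A R] (hR : Function.Surjective (algebraMap A R))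
    (N : Type u) [AddCommGroup N] [Module A N] [Module R N] [IsScalarTower A R N] :
    IsBaseChange R (LinearMap.id : N →ₗ[A] N) := by
  refine IsBaseChange.of_lift_unique _ fun Q _ _ _ _ g => ?_
  refine ⟨{ g with map_smul' := fun r x => ?_ }, LinearMap.ext fun x => rfl, fun g' hg' =>
    LinearMap.ext fun x => LinearMap.congr_fun hg' x⟩
  obtain ⟨a, rfl⟩ := hR r
  simp [algebraMap_smul]

theorem exteriorPower_smul_eq_zero {N : Type u} [AddCommGroup N] [Module A N] {a : A} (h : ∀ x : N, a • x = 0)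
    {n : ℕ} (hn : 0 < n) (z : ⋀[A]^n N) : a • z = 0 := by
  have hz : z ∈ Submodule.span A (Set.range (exteriorPower.ιMulti A n (M := N))) := by
    rw [exteriorPower.ιMulti_span]; trivial
  induction hz using Submodule.span_induction with
  | mem _ hx =>
    obtain ⟨v, rfl⟩ := hx
    let i : Fin n := ⟨0, hn⟩
    conv_lhs => rw [← Function.update_eq_self i v]
    rw [← AlternatingMap.map_update_smul, h]
    exact AlternatingMap.map_coord_zero _ i (Function.update_self ..)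
  | zero => exact smul_zero _
  | add x y _ _ hx hy => rw [smul_add, hx, hy, add_zero]
  | smul r x _ hx => rw [smul_comm, hx, smul_zero]

/-- Exterior powers of a free module over a quotient ring. -/
theorem nonempty_extPow_quot (I : Ideal A) (r n : ℕ) (hn : 0 < n) (N : Type u) [AddCommGroup N] [Module A N]
    (e : N ≃ₗ[A] (Fin r → A ⧸ I)) : Nonempty (↥(⋀[A]^n N) ≃ₗ[A] (Fin (r.choose n) → A ⧸ I)) := by
  rcases subsingleton_or_nontrivial (A ⧸ I) with hsub | hnt
  · haveI : Subsingleton N := e.toEquiv.subsingleton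
    haveI : Subsingleton ↥(⋀[A]^n N) := by
      refine ⟨fun x y => ?_⟩
      have h := fun z : ↥(⋀[A]^n N) => exteriorPower_smul_eq_zero (a := (1 : A)) (fun x : N => Subsingleton.elim _ _) hn z
      simp only [one_smul] at h
      rw [h x, h y]
    exact ⟨LinearEquiv.ofSubsingleton _ _⟩
  have hR : Function.Surjective (algebraMap A (A ⧸ I)) := Ideal.Quotient.mk_surjective
  let E : ↥(⋀[A]^n (Fin r → A ⧸ I)) ≃ₗ[A] ↥(⋀[A]^n N) :=
    LinearEquiv.ofLinearMap (exteriorPower.map n e.symm.toLinearMap) (exteriorPower.map n e.toLinearMap)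
      (by rw [← exteriorPower.map_comp]; simp)
      (by rw [← exteriorPower.map_comp]; simp)
  have hbc := ExtBC.isBaseChange_extMap (S := A ⧸ I) (isBaseChange_id hR (Fin r → A ⧸ I)) n
  have hkill : ∀ (a : A), a ∈ I → ∀ z : ↥(⋀[A]^n (Fin r → A ⧸ I)), a • z = 0 := fun a ha z =>
    exteriorPower_smul_eq_zero (fun x => funext fun k => by
      rw [Pi.smul_apply, Pi.zero_apply, ← algebraMap_smul (A ⧸ I), Ideal.Quotient.algebraMap_eq,
        Ideal.Quotient.eq_zero_iff_mem.2 ha, zero_smul]) hn z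
  have hbot : (I • ⊤ : Submodule A ↥(⋀[A]^n (Fin r → A ⧸ I))) = ⊥ := by
    rw [eq_bot_iff, Submodule.smul_le]
    exact fun a ha z _ => (Submodule.mem_bot A).2 (hkill a ha z)
  let T : (A ⧸ I) ⊗[A] ↥(⋀[A]^n (Fin r → A ⧸ I)) ≃ₗ[A] ↥(⋀[A]^n (Fin r → A ⧸ I)) :=
    TensorProduct.quotTensorEquivQuotSMul _ I ≪≫ₗ Submodule.quotEquivOfEqBot _ hbot
  let B : ↥(⋀[A ⧸ I]^n (Fin r → A ⧸ I)) ≃ₗ[A ⧸ I] (Fin (r.choose n) → A ⧸ I) :=
    (Module.finBasisOfFinrankEq (A ⧸ I) _ (by
      rw [exteriorPower.finrank_eq, Module.finrank_fin_fun])).equivFun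
  exact ⟨E.symm ≪≫ₗ T.symm ≪≫ₗ (hbc.equiv ≪≫ₗ B).restrictScalars A⟩

end Groth.Agent.TorExcess
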