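import Groth.Agent.TorExcess.Tor
import Groth.Agent.KoszulLib.H1Quasi
import Groth.Agent.KoszulLib.Iff
import Groth.Agent.RegLoc.QuasiRegular
import Groth.Agent.TorSymm.Basic

/-!
Powers of a Koszul-regular ideal and base change.
-/

set_option autoImplicit false
set_option maxHeartbeats 1000000
set_option linter.style.haveILetI false
universe u

namespace Groth.Agent.TorExcess

open CategoryTheory Limits HomologicalComplex MonoidalCategory CochainComplex
open Groth.Agent.CechX Groth.Agent.KosSpan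
open MvPolynomial

variable {A : Type u} [CommRing A] {A' : Type u} [CommRing A'] [Algebra A A']

/-- Koszul complexes of a restricted module, elementwise. -/
theorem exists_addEquiv_KC : ∀ l : List A,
    ∃ Φ : ∀ p : ℤ, ↑((KC l (single0 (ModuleCat.of A A'))).X p) ≃+
        ↑((KC (l.map (algebraMap A A')) (single0 (ModuleCat.of A' A'))).X p),
      (∀ (p q : ℤ) (_ : p + 1 = q) x, Φ q ((KC l (single0 (ModuleCat.of A A'))).d p q x) =
        (KC (l.map (algebraMap A A')) (single0 (ModuleCat.of A' A'))).d p q (Φ p x)) ∧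
      ∀ (p : ℤ) (a : A) x, Φ p (a • x) = algebraMap A A' a • Φ p x
  | [] => by
    have hex : ∀ p : ℤ, ∃ φ : ↑((single0 (ModuleCat.of A A')).X p) ≃+ ↑((single0 (ModuleCat.of A' A')).X p),
        ∀ (a : A) x, φ (a • x) = algebraMap A A' a • φ x := fun p => by
      by_cases hp : p = 0
      · subst hp
        let T := (singleObjXSelf (ComplexShape.up ℤ) 0 (ModuleCat.of A A')).toLinearEquiv
        let T' := (singleObjXSelf (ComplexShape.up ℤ) 0 (ModuleCat.of A' A')).toLinearEquiv
        refine ⟨{ toFun := fun x => T'.symm (T x : A')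
                  invFun := fun y => T.symm (T' y : A')
                  left_inv := fun x => by simp
                  right_inv := fun y => by simp
                  map_add' := fun x y => (congrArg T'.symm (map_add T x y)).trans (T'.symm.map_add (T x : A') (T y : A')) },
          fun a x => ?_⟩
        show T'.symm (T (a • x) : A') = algebraMap A A' a • T'.symm (T x : A')
        rw [← map_smul T'.symm, map_smul T]
        exact congrArg T'.symm (Algebra.smul_def a (T x : A'))
      · refine ⟨{ toFun := fun _ => 0, invFun := fun _ => 0,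
                  left_inv := fun x => (single0_eq_zero _ p (by omega) x).symm
                  right_inv := fun x => (single0_eq_zero _ p (by omega) x).symm
                  map_add' := fun _ _ => (add_zero _).symm }, fun a x => (smul_zero _).symm⟩
    choose Φ hΦ using hex
    refine ⟨Φ, fun p q hpq x => ?_, hΦ⟩
    by_cases hp : p = 0
    · subst hp
      exact (single0_eq_zero _ q (by omega) _).trans (single0_eq_zero _ q (by omega) _).symm
    · show Φ q ((single0 (ModuleCat.of A A')).d p q x) = (single0 (ModuleCat.of A' A')).d p q (Φ p x)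
      rw [single0_eq_zero _ p (by omega) x, map_zero, map_zero, map_zero, map_zero]
  | f :: l => by
    obtain ⟨Φ, hd, hs⟩ := exists_addEquiv_KC l
    let φ := f • 𝟙 (KC l (single0 (ModuleCat.of A A')))
    let φ' := algebraMap A A' f • 𝟙 (KC (l.map (algebraMap A A')) (single0 (ModuleCat.of A' A')))
    let Ψ : ∀ p : ℤ, ↑((mappingCone φ).X p) ≃+ ↑((mappingCone φ').X p) := fun p =>
      { toFun := fun z => cmk φ' p (p + 1) rfl (Φ (p + 1) (c1 φ p (p + 1) rfl z)) (Φ p (c2 φ p z))
        invFun := fun z => cmk φ p (p + 1) rfl ((Φ (p + 1)).symm (c1 φ' p (p + 1) rfl z)) ((Φ p).symm (c2 φ' p z))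
        left_inv := fun z => by simp only [c1_cmk, c2_cmk, AddEquiv.symm_apply_apply, cmk_c]
        right_inv := fun z => by simp only [c1_cmk, c2_cmk, AddEquiv.apply_symm_apply, cmk_c]
        map_add' := fun z w => cone_ext (rfl : p + 1 = p + 1) (by simp only [map_add, c1_cmk])
          (by simp only [map_add, c2_cmk]) }
    refine ⟨Ψ, fun p q hpq z => ?_, fun p a z => ?_⟩
    · subst hpq
      show cmk φ' _ _ rfl (Φ _ (c1 φ _ _ rfl ((mappingCone φ).d p (p + 1) z))) (Φ _ (c2 φ _ ((mappingCone φ).d p (p + 1) z))) =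
        (mappingCone φ').d p (p + 1) (cmk φ' p (p + 1) rfl (Φ (p + 1) (c1 φ p (p + 1) rfl z)) (Φ p (c2 φ p z)))
      refine cone_ext (rfl : p + 1 + 1 = p + 1 + 1) ?_ ?_
      · refine ((c1_cmk _ _ _).trans ((congrArg (Φ _) (c1_d rfl rfl z)).trans ?_)).trans (c1_d rfl rfl _).symm
        exact ((map_neg (Φ _) _).trans (congrArg Neg.neg (hd _ _ rfl _))).trans (congrArg
          (fun t => -((KC (l.map (algebraMap A A')) (single0 (ModuleCat.of A' A'))).d (p + 1) (p + 1 + 1) t))
          (c1_cmk _ _ _).symm)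
      · refine ((c2_cmk _ _ _).trans ((congrArg (Φ _) (c2_d rfl z)).trans ?_)).trans (c2_d rfl _).symm
        refine ((map_add (Φ _) _ _).trans (congrArg₂ (· + ·) ((congrArg (Φ _) (CechX.smul_id_f_apply f _ _ _)).trans
          (hs _ f _)) (hd _ _ rfl _))).trans ?_
        exact congrArg₂ (· + ·) ((congrArg (algebraMap A A' f • ·) (c1_cmk _ _ _).symm).trans
            (CechX.smul_id_f_apply _ _ _ _).symm)
          (congrArg (fun t => (KC (l.map (algebraMap A A')) (single0 (ModuleCat.of A' A'))).d p (p + 1) t)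
            (c2_cmk _ _ _).symm)
    · show cmk φ' p _ rfl (Φ _ (c1 φ p _ rfl (a • z))) (Φ _ (c2 φ p (a • z))) =
        algebraMap A A' a • cmk φ' p _ rfl (Φ _ (c1 φ p _ rfl z)) (Φ _ (c2 φ p z))
      refine cone_ext (rfl : p + 1 = p + 1) ?_ ?_
      · exact (c1_cmk _ _ _).trans ((congrArg (Φ _) ((c1 φ p _ rfl).map_smul a z)).trans ((hs _ a _).trans
          ((congrArg (algebraMap A A' a • ·) (c1_cmk (φ := φ') (rfl : p + 1 = p + 1) _ _).symm).trans
            (LinearMap.map_smul _ _ _).symm)))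
      · exact (c2_cmk _ _ _).trans ((congrArg (Φ _) ((c2 φ p).map_smul a z)).trans ((hs _ a _).trans
          ((congrArg (algebraMap A A' a • ·) (c2_cmk (φ := φ') (rfl : p + 1 = p + 1) _ _).symm).trans
            (LinearMap.map_smul _ _ _).symm)))

theorem isZero_tor_quot (l : List A) (hl : LCI.IsKoszulRegularSeq A l)
    (hl' : LCI.IsKoszulRegularSeq A' (l.map (algebraMap A A'))) (i : ℕ) :
    IsZero (((Tor (ModuleCat.{u} A) (i + 1)).obj (ModuleCat.of A (A ⧸ Ideal.ofList l))).obj (ModuleCat.of A A')) := by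
  obtain ⟨e⟩ := nonempty_tor_iso l hl (ModuleCat.of A A') i
  refine IsZero.of_iso (IsZero.of_iso ?_ e)
    (((TorBalance.symmIso (i + 1)).app (ModuleCat.of A (A ⧸ Ideal.ofList l))).app (ModuleCat.of A A'))
  refine (CechX.isZero_homology_iff _ (-((i + 1 : ℕ) : ℤ) - 1) (by omega)).2 fun x hx => ?_
  obtain ⟨Φ, hd, -⟩ := exists_addEquiv_KC (A' := A') l
  have hz := hl' (-((i + 1 : ℕ) : ℤ)) (by omega)
  replace hz := (congrArg (fun K : CochainComplex (ModuleCat.{u} A') ℤ => IsZero (K.homology (-((i + 1 : ℕ) : ℤ))))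
    (KosSpan.koszul_eq (l.map (algebraMap A A')))).mp hz
  obtain ⟨y, hy⟩ := (CechX.isZero_homology_iff _ (-((i + 1 : ℕ) : ℤ) - 1) (by omega)).1 hz (Φ _ x)
    ((hd _ _ rfl x).symm.trans ((congrArg (Φ _) hx).trans (map_zero _)))
  refine ⟨(Φ _).symm y, (Φ _).injective ?_⟩
  exact (hd _ _ (by omega) _).trans ((congrArg _ ((Φ _).apply_symm_apply y)).trans hy)

theorem isZero_tor_pi (Q : Type u) [AddCommGroup Q] [Module A Q] (N : ModuleCat.{u} A) (i : ℕ)
    (h : IsZero (((Tor (ModuleCat.{u} A) i).obj (ModuleCat.of A Q)).obj N)) : ∀ n : ℕ,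
    IsZero (((Tor (ModuleCat.{u} A) (i)).obj (ModuleCat.of A (Fin (n + 1) → Q))).obj N)
  | 0 => IsZero.of_iso h (((Tor (ModuleCat.{u} A) i).mapIso (LinearEquiv.funUnique (Fin 1) A Q).toModuleIso).app N)
  | n + 1 => by
    let f : Q →ₗ[A] (Fin (n + 1 + 1) → Q) := LinearMap.single A (fun _ : Fin (n + 1 + 1) => Q) 0
    let g : (Fin (n + 1 + 1) → Q) →ₗ[A] (Fin (n + 1) → Q) := LinearMap.funLeft A Q Fin.succ
    let S : ShortComplex (ModuleCat.{u} A) := ShortComplex.mk (ModuleCat.ofHom f) (ModuleCat.ofHom g)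
      (ModuleCat.hom_ext (LinearMap.ext fun x => _root_.funext fun k => Pi.single_eq_of_ne (M := fun _ : Fin (n + 1 + 1) => Q) (Fin.succ_ne_zero k) x))
    have hS : S.ShortExact :=
      { exact := (ShortComplex.ShortExact.moduleCat_exact_iff_function_exact S).2 fun x => by
          constructor
          · intro hx
            refine ⟨x 0, _root_.funext fun k => ?_⟩
            cases k using Fin.cases with
            | zero => exact Pi.single_eq_same (M := fun _ : Fin (n + 1 + 1) => Q) 0 (x 0)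
            | succ k => exact (Pi.single_eq_of_ne (M := fun _ : Fin (n + 1 + 1) => Q) (Fin.succ_ne_zero k) (x 0)).trans (congrFun hx k).symm
          · rintro ⟨y, rfl⟩
            exact _root_.funext fun k => Pi.single_eq_of_ne (M := fun _ : Fin (n + 1 + 1) => Q) (Fin.succ_ne_zero k) y
        mono_f := (ModuleCat.mono_iff_injective _).2 fun a b h => Pi.single_injective (M := fun _ : Fin (n + 1 + 1) => Q) 0 h
        epi_g := (ModuleCat.epi_iff_surjective _).2 (LinearMap.funLeft_surjective_of_injective A Q _ (Fin.succ_injective _)) }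
    exact TorBalance.isZero_middle hS N i h (isZero_tor_pi Q N i h n)

/-- Graded pieces of a quasi-regular ideal are free. -/
theorem exists_equiv_gr {c : ℕ} (f : Fin c → A) (hf : CAlgX.IsQuasiRegular f) (n : ℕ) :
    ∃ m : ℕ, Nonempty ((↥(Ideal.span (Set.range f) ^ n) ⧸
      Submodule.comap (Ideal.span (Set.range f) ^ n).subtype (Ideal.span (Set.range f) ^ (n + 1))) ≃ₗ[A]
      (Fin m → A ⧸ Ideal.span (Set.range f))) := by
  classical
  let J := Ideal.span (Set.range f)
  let ι := {d // d ∈ Finset.finsuppAntidiag (Finset.univ : Finset (Fin c)) n}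
  have hdeg : ∀ d : Fin c →₀ ℕ, d.degree = n ↔ d ∈ Finset.finsuppAntidiag (Finset.univ : Finset (Fin c)) n :=
    fun d => by rw [Finset.mem_finsuppAntidiag, Finsupp.degree_eq_sum]; simp
  have hmem : ∀ P : MvPolynomial (Fin c) A, P.IsHomogeneous n → eval f P ∈ J ^ n := fun P hP => by
    rw [eval_eq]
    refine Ideal.sum_mem _ fun d hd => Ideal.mul_mem_left _ _ ?_
    rw [hP.degree_eq_sum_deg_support hd, ← Finset.prod_pow_eq_pow_sum]
    exact Ideal.prod_mem_prod fun i _ => Ideal.pow_mem_pow (Ideal.subset_span (s := Set.range f) ⟨i, rfl⟩) _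
  let pol : (ι → A) →ₗ[A] MvPolynomial (Fin c) A := ∑ d : ι, (MvPolynomial.monomial d.1).comp (LinearMap.proj d)
  have hpol : ∀ v, (pol v).IsHomogeneous n := fun v => by
    simp only [pol, LinearMap.sum_apply, LinearMap.comp_apply, LinearMap.proj_apply]
    exact MvPolynomial.IsHomogeneous.sum _ _ _ fun d _ => isHomogeneous_monomial _ ((hdeg d.1).2 d.2)
  let G : (ι → A) →ₗ[A] ↥(J ^ n) :=
    LinearMap.codRestrict _ ((aeval f).toLinearMap.comp pol) fun v => by
      show aeval f (pol v) ∈ J ^ n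
      exact hmem _ (hpol v)
  have hG : ∀ v, (G v : A) = eval f (pol v) := fun v => by
    rw [← MvPolynomial.coe_aeval_eq_eval]
    rfl
  let q := Submodule.comap (J ^ n).subtype (J ^ (n + 1))
  let G' := q.mkQ.comp G
  have hcoeff : ∀ v (d : ι), (pol v).coeff d.1 = v d := fun v d => by
    simp [pol, LinearMap.sum_apply, MvPolynomial.coeff_sum, MvPolynomial.coeff_monomial, Subtype.ext_iff.symm]
    rw [Finset.sum_eq_single d] <;> simp +contextual
  have hsurj : Function.Surjective G' := fun z => by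
    obtain ⟨⟨y, hy⟩, rfl⟩ := q.mkQ_surjective z
    obtain ⟨P, hP, rfl⟩ := RegLoc.exists_homogeneous_eval f n hy
    refine ⟨fun d => P.coeff d.1, congrArg q.mkQ (Subtype.ext ?_)⟩
    rw [hG]
    have : pol (fun d => P.coeff d.1) = P := by
      ext d
      by_cases hd : d ∈ Finset.finsuppAntidiag (Finset.univ : Finset (Fin c)) n
      · exact hcoeff _ ⟨d, hd⟩
      · rw [hP.coeff_eq_zero (fun h => hd ((hdeg d).1 h)),
          (hpol _).coeff_eq_zero (fun h => hd ((hdeg d).1 h))]
    rw [this]
  let H : (ι → A) →ₗ[A] (ι → A ⧸ J) := LinearMap.pi fun d => (Submodule.mkQ J).comp (LinearMap.proj d)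
  have hH : Function.Surjective H := fun v =>
    ⟨fun d => (Submodule.Quotient.mk_surjective J (v d)).choose,
      funext fun d => (Submodule.Quotient.mk_surjective J (v d)).choose_spec⟩
  have hker : LinearMap.ker G' = LinearMap.ker H := by
    ext v
    rw [LinearMap.mem_ker, LinearMap.mem_ker]
    show Submodule.Quotient.mk (G v) = 0 ↔ _
    rw [Submodule.Quotient.mk_eq_zero, Submodule.mem_comap]
    constructor
    · intro hv
      funext d
      refine (Submodule.Quotient.mk_eq_zero _).2 ?_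
      show v d ∈ J
      rw [← hcoeff v d]
      refine hf n _ (hpol v) ?_ d.1
      rw [← hG v]
      exact hv
    · intro hv
      show (G v : A) ∈ J ^ (n + 1)
      rw [hG]
      simp only [pol, LinearMap.sum_apply, LinearMap.comp_apply, LinearMap.proj_apply, map_sum]
      refine Ideal.sum_mem _ fun d _ => ?_
      have hvd : v d ∈ J := (Submodule.Quotient.mk_eq_zero _).1 (congrFun hv d)
      have h1 : eval f (monomial d.1 (1 : A)) ∈ J ^ n := hmem _ (isHomogeneous_monomial _ ((hdeg d.1).2 d.2))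
      show eval f (monomial d.1 (v d)) ∈ J ^ (n + 1)
      rw [show monomial d.1 (v d) = C (v d) * monomial d.1 (1 : A) by rw [C_mul_monomial, mul_one],
        map_mul, eval_C, pow_succ']
      exact Ideal.mul_mem_mul hvd h1
  exact ⟨Fintype.card ι, ⟨((G'.quotKerEquivOfSurjective hsurj).symm ≪≫ₗ Submodule.quotEquivOfEq _ _ hker ≪≫ₗ
    H.quotKerEquivOfSurjective hH) ≪≫ₗ LinearEquiv.funCongrLeft A _ (Fintype.equivFin ι).symm⟩⟩

theorem tor_powers (l : List A) (hl : LCI.IsKoszulRegularSeq A l)
    (hl' : LCI.IsKoszulRegularSeq A' (l.map (algebraMap A A'))) :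
    ∀ (n i : ℕ),
      IsZero (((Tor (ModuleCat.{u} A) (i + 1)).obj (ModuleCat.of A ↥(Ideal.span {x | x ∈ l} ^ n))).obj (ModuleCat.of A A')) ∧
      IsZero (((Tor (ModuleCat.{u} A) (i + 1)).obj (ModuleCat.of A (↥(Ideal.span {x | x ∈ l} ^ n) ⧸
        Submodule.comap (Ideal.span {x | x ∈ l} ^ n).subtype (Ideal.span {x | x ∈ l} ^ (n + 1))))).obj (ModuleCat.of A A')) := by
  have hgr : ∀ n i : ℕ, IsZero (((Tor (ModuleCat.{u} A) (i + 1)).obj (ModuleCat.of A (↥(Ideal.span {x | x ∈ l} ^ n) ⧸
      Submodule.comap (Ideal.span {x | x ∈ l} ^ n).subtype (Ideal.span {x | x ∈ l} ^ (n + 1))))).obj (ModuleCat.of A A')) := by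
    intro n i
    have hrange : Set.range l.get = {x | x ∈ l} := by
      ext x
      exact ⟨fun ⟨j, hj⟩ => hj ▸ List.get_mem l j, fun hx => List.mem_iff_get.1 hx⟩
    have hq : CAlgX.IsQuasiRegular l.get :=
      KoszulLib.isQuasiRegular_of_h1 (KoszulLib.isH1Regular_of_acyclic
        (KoszulLib.isKoszulRegularSeq_iff_acyclic.1 (by rw [List.ofFn_get]; exact hl)))
    have hex := exists_equiv_gr l.get hq n
    rw [hrange] at hex
    obtain ⟨m, ⟨e⟩⟩ := hex
    refine IsZero.of_iso ?_ (((Tor (ModuleCat.{u} A) (i + 1)).mapIso e.toModuleIso).app (ModuleCat.of A A'))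
    cases m with
    | zero =>
      have h0 := isZero_tor_pi (A ⧸ Ideal.span {x | x ∈ l}) (ModuleCat.of A A') (i + 1) (isZero_tor_quot l hl hl' i)
      exact (TorBalance.isZero_flat (ModuleCat.of A (Fin 0 → A ⧸ Ideal.span {x | x ∈ l})) _ i)
    | succ m => exact isZero_tor_pi _ _ _ (isZero_tor_quot l hl hl' i) m
  intro n
  induction n with
  | zero =>
    intro i
    refine ⟨IsZero.of_iso (TorBalance.isZero_flat (ModuleCat.of A A) _ i)
      (((Tor (ModuleCat.{u} A) (i + 1)).mapIso ?_).app _), hgr 0 i⟩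
    exact ((LinearEquiv.ofEq _ ⊤ (by rw [pow_zero, Ideal.one_eq_top])).trans Submodule.topEquiv).toModuleIso
  | succ n ih =>
    intro i
    refine ⟨?_, hgr (n + 1) i⟩
    let J := Ideal.span {x | x ∈ l}
    let q := Submodule.comap (J ^ n).subtype (J ^ (n + 1))
    let fι : ↥(J ^ (n + 1)) →ₗ[A] ↥(J ^ n) := Submodule.inclusion (Ideal.pow_le_pow_right (I := J) (Nat.le_succ n))
    let S : ShortComplex (ModuleCat.{u} A) := ShortComplex.mk (ModuleCat.ofHom fι) (ModuleCat.ofHom q.mkQ)
      (ModuleCat.hom_ext (LinearMap.ext fun x => (Submodule.Quotient.mk_eq_zero q).2 x.2))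
    have hS : S.ShortExact :=
      { exact := (ShortComplex.ShortExact.moduleCat_exact_iff_function_exact S).2 fun x => by
          constructor
          · intro hx
            exact ⟨⟨x.1, (Submodule.Quotient.mk_eq_zero q).1 hx⟩, rfl⟩
          · rintro ⟨y, rfl⟩
            exact (Submodule.Quotient.mk_eq_zero q).2 y.2
        mono_f := (ModuleCat.mono_iff_injective _).2 fun a b h => Subtype.ext (congrArg (fun z : ↥(J ^ n) => (z : A)) h)
        epi_g := (ModuleCat.epi_iff_surjective _).2 q.mkQ_surjective }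
    exact TorBalance.isZero_left hS _ (i + 1) (ih i).1 (hgr n (i + 1))

end Groth.Agent.TorExcess
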