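import Groth.Agent.CotT.RegQuot
import Groth.Agent.CotT.CI
import Groth.Agent.KoszulLib.Exchange
import Groth.Agent.KoszulLib.Iff

/-!
Regular sequences among given local generators of an ideal with regular quotient.
-/

set_option autoImplicit false
set_option linter.style.haveILetI false
universe u

namespace Groth.Agent.TorExcess

open IsLocalRing RingTheory.Sequence

theorem isH1Regular_of_isWeaklyRegular {C : Type u} [CommRing C] {n : ℕ} {v : Fin n → C}
    (h : IsWeaklyRegular C (List.ofFn v)) : CAlgX.IsH1Regular v :=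
  KoszulLib.isH1Regular_of_acyclic (KoszulLib.acyclic_of_isWeaklyRegular' h)

theorem injective_of_isH1Regular {C : Type u} [CommRing C] {n : ℕ} {v : Fin n → C}
    (h : CAlgX.IsH1Regular v) (hne : Ideal.span (Set.range v) ≠ ⊤) : Function.Injective v := by
  classical
  intro i j hij
  by_contra hne'
  have hsum : ∑ k, (Pi.single i (1 : C) - Pi.single j 1 : Fin n → C) k * v k = 0 := by
    simp [sub_mul, Finset.sum_sub_distrib, Pi.single_apply, ite_mul, hij]
  have h1 := KoszulLib.rel_mem h hsum i
  rw [Pi.sub_apply, Pi.single_eq_same, Pi.single_eq_of_ne hne', sub_zero] at h1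
  exact hne ((Ideal.eq_top_iff_one _).2 h1)

variable {A C : Type u} [CommRing A] [CommRing C] [Algebra A C] [IsRegularLocalRing C]

/-- A regular sequence, chosen inside a given set, generating an ideal with regular quotient. -/
theorem exists_regular_subfamily (I : Ideal C) (hI : I ≠ ⊤) [IsRegularRing (C ⧸ I)] (s : Set A)
    (hs : Ideal.span (algebraMap A C '' s) = I) :
    ∃ (n : ℕ) (a : Fin n → A), (∀ i, a i ∈ s) ∧ Ideal.span (Set.range (algebraMap A C ∘ a)) = I ∧
      IsWeaklyRegular C (List.ofFn (algebraMap A C ∘ a)) ∧ CAlgX.IsH1Regular (algebraMap A C ∘ a) ∧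
      Function.Injective (algebraMap A C ∘ a) := by
  obtain ⟨r, b, hb, hwb⟩ := CotT.exists_wreg_generators I hI
  have hwr := CotT.isWeaklyRegular_ofFn hwb
  have hofb : Ideal.ofList (List.ofFn b) = I := by
    rw [← hb, Ideal.ofList]
    congr 1
    ext x
    simp [List.mem_ofFn]
  have hdim := CotT.dim_of_isWeaklyRegular _ (by rw [hofb]; exact hI) hwr
  rw [List.length_ofFn, hofb] at hdim
  obtain ⟨e, h, he, hmem, hspan⟩ := KoszulLib.exists_exchange (r := 0) (isH1Regular_of_isWeaklyRegular hwr)
    (hb.trans_ne hI) (Fin.elim0 : Fin 0 → C) (fun i => i.elim0) (fun _ _ i => i.elim0)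
    (algebraMap A C '' s) (by rw [hb, ← hs]; exact Ideal.subset_span)
    (by rw [hb, hs]; exact le_sup_right)
  rw [Nat.zero_add] at he
  subst he
  choose a ha ha' using hmem
  have hh : algebraMap A C ∘ a = h := funext ha'
  have hspan' : Ideal.span (Set.range h) = I := by
    rw [← hb, hspan]
    congr 1
    ext x
    simp [Fin.append, Fin.addCases]
    exact ⟨fun ⟨y, hy⟩ => ⟨Fin.cast (zero_add _).symm y, hy⟩, fun ⟨y, hy⟩ => ⟨_, hy⟩⟩
  have hofh : Ideal.ofList (List.ofFn h) = I := by
    rw [← hspan', Ideal.ofList]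
    congr 1
    ext x
    simp [List.mem_ofFn]
  have hw : IsWeaklyRegular C (List.ofFn h) := CotT.isWeaklyRegular_of_dim _ (by rw [hofh]; exact hI)
    (by rw [List.length_ofFn, hofh]; exact hdim)
  refine ⟨e, a, ha, ?_⟩
  rw [hh]
  exact ⟨hspan', hw, isH1Regular_of_isWeaklyRegular hw,
    injective_of_isH1Regular (isH1Regular_of_isWeaklyRegular hw) (hspan'.trans_ne hI)⟩

end Groth.Agent.TorExcess
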