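import Groth.Agent.TorExcess.Regular
import Groth.Agent.GeomProp.SmoothReg

/-!
Smooth quotients of smooth algebras at a prime.
-/

set_option autoImplicit false
set_option linter.style.haveILetI false
universe u

namespace Groth.Agent.TorExcess

open IsLocalRing RingTheory.Sequence

variable {A C : Type u} [CommRing A] [CommRing C] [Algebra A C] (p : Ideal A) [p.IsPrime]
  [IsLocalization.AtPrime C p] [IsLocalRing C]

theorem isRegularRing_quot {I : Ideal A} (hI : I ≤ p) [IsRegularRing (A ⧸ I)] :
    IsRegularRing (C ⧸ I.map (algebraMap A C)) := by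
  haveI : (p.map (Ideal.Quotient.mk I)).IsPrime :=
    Ideal.map_isPrime_of_surjective Ideal.Quotient.mk_surjective (by rwa [Ideal.mk_ker])
  let p' := p.map (Ideal.Quotient.mk I)
  letI : Algebra (A ⧸ I) (C ⧸ I.map (algebraMap A C)) :=
    (Ideal.quotientMap (I.map (algebraMap A C)) (algebraMap A C) Ideal.le_comap_map).toAlgebra
  haveI h1 := IsLocalization.of_surjective p.primeCompl (S := C) (R' := A ⧸ I) (S' := C ⧸ I.map (algebraMap A C))
    (Ideal.Quotient.mk I) Ideal.Quotient.mk_surjective (Ideal.Quotient.mk _) Ideal.Quotient.mk_surjective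
    (RingHom.ext fun x => rfl) (by rw [Ideal.mk_ker, Ideal.mk_ker])
  have hM : p.primeCompl.map (Ideal.Quotient.mk I) = p'.primeCompl := by
    ext z
    obtain ⟨x, rfl⟩ := Ideal.Quotient.mk_surjective z
    have hcomap : p'.comap (Ideal.Quotient.mk I) = p := by
      rw [Ideal.comap_map_of_surjective' _ Ideal.Quotient.mk_surjective, Ideal.mk_ker, sup_eq_left.2 hI]
    constructor
    · rintro ⟨y, hy, hyx⟩ hx
      exact hy (hcomap ▸ Ideal.mem_comap.2 (hyx.symm ▸ hx))
    · intro hx
      exact ⟨x, fun h => hx (Ideal.mem_map_of_mem _ h), rfl⟩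
  haveI : IsLocalization.AtPrime (C ⧸ I.map (algebraMap A C)) p' :=
    (show IsLocalization p'.primeCompl (C ⧸ I.map (algebraMap A C)) from hM ▸ h1)
  haveI := IsRegularRing.isRegularLocalRing_localization p'
  haveI : IsRegularLocalRing (C ⧸ I.map (algebraMap A C)) :=
    IsRegularLocalRing.of_ringEquiv (R := Localization.AtPrime p')
      (IsLocalization.algEquiv p'.primeCompl (Localization.AtPrime p') (C ⧸ I.map (algebraMap A C))).toRingEquiv
  exact CotT.isRegularRing_of_local _

variable [IsRegularLocalRing C]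

theorem map_ne_top {I : Ideal A} (hI : I ≤ p) : I.map (algebraMap A C) ≠ ⊤ := fun h =>
  (maximalIdeal.isMaximal C).ne_top (top_le_iff.1 (h ▸ (IsLocalization.AtPrime.map_eq_maximalIdeal p C ▸
    Ideal.map_mono hI)))

include p in
/-- Regular generators at `p` of an ideal with regular quotient ring. -/
theorem exists_local_generators (I : Ideal A) [IsRegularRing (A ⧸ I)] :
    ∃ (n : ℕ) (a : Fin n → I), Ideal.span (Set.range fun i => algebraMap A C (a i)) = I.map (algebraMap A C) ∧
      IsWeaklyRegular C (List.ofFn fun i => algebraMap A C (a i)) := by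
  by_cases hI : I ≤ p
  · haveI := isRegularRing_quot (C := C) p hI
    obtain ⟨n, a, ha, hspan, hw, -, -⟩ := exists_regular_subfamily (I.map (algebraMap A C)) (map_ne_top p hI)
      (I : Set A) rfl
    exact ⟨n, fun i => ⟨a i, ha i⟩, hspan, hw⟩
  · obtain ⟨x, hx, hxp⟩ := Set.not_subset.1 hI
    have hu : IsUnit (algebraMap A C x) := IsLocalization.map_units C (⟨x, hxp⟩ : p.primeCompl)
    refine ⟨1, fun _ => ⟨x, hx⟩, ?_, ?_⟩
    · rw [Set.range_const, Ideal.span_singleton_eq_top.2 hu]
      exact (Ideal.eq_top_of_isUnit_mem _ (Ideal.mem_map_of_mem _ hx) hu).symm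
    · rw [List.ofFn_succ, List.ofFn_zero, isWeaklyRegular_cons_iff]
      exact ⟨hu.isSMulRegular C, IsWeaklyRegular.nil _ _⟩

end Groth.Agent.TorExcess
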